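import Cfsg.Agent.FUS.MC.Rig

/-! # The generic fibre of a one-parameter family -/

set_option autoImplicit false

namespace CL.MCN

open Module LinearMap Polynomial

/-- Semicontinuity: both sides are the trailing degree of the characteristic polynomial. -/
theorem finrank_maxGen_le {k ι : Type*} [Field k] [Fintype ι] [DecidableEq ι] (A : Matrix ι ι k[X]) :
    finrank (FractionRing k[X]) (Module.End.maxGenEigenspace
      (Matrix.toLin' (A.map (algebraMap k[X] (FractionRing k[X])))) 0) ≤
    finrank k (Module.End.maxGenEigenspace (Matrix.toLin' (A.map (eval 0))) 0) := by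
  rw [finrank_maxGenEigenspace_zero_eq, finrank_maxGenEigenspace_zero_eq, Matrix.charpoly_toLin',
    Matrix.charpoly_toLin', Matrix.charpoly_map, ← coe_evalRingHom, Matrix.charpoly_map]
  refine natTrailingDegree_le_of_ne_zero fun e => ?_
  rw [coeff_map, map_eq_zero_iff _ (IsFractionRing.injective _ _)] at e
  refine (A.charpoly_monic.map (evalRingHom (0 : k))).ne_zero (trailingCoeff_eq_zero.1 ?_)
  rw [trailingCoeff, coeff_map, e, map_zero]

open Matrix in
/-- The generalized kernel of `N` over the fraction field is a deformation of `ρ`, so is isomorphic to `ρ`. -/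
theorem core {k Λ ι n : Type*} [Field k] [Ring Λ] [Algebra k Λ] [Finite Λ] [Fintype ι] [DecidableEq ι] [Fintype n]
    [DecidableEq n] (ρ : Λ →ₐ[k] Matrix n n k) (hρ : Function.Surjective ρ) (Γ : Λ →ₐ[k] Matrix ι ι k[X])
    (N : Matrix ι ι k[X]) (hN : ∀ x, Commute (Γ x) N) (δ : Matrix ι n k) (ε : Matrix n ι k)
    (hδ : ∀ x, (Γ x).map (eval 0) * δ = δ * ρ x) (h0 : N.map (eval 0) = 1 - δ * ε)
    (q : Matrix n ι k[X]) (j : Matrix ι n k[X]) (hqj : q * j = 1)
    (htr : ∀ Φ : Matrix ι ι k[X], (∀ x, Commute (Γ x) Φ) → q * (N * Φ) * j = 0)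
    {x : Λ} (hx : ρ x = 0) {Y : Matrix n n k[X]} (hY : q * Γ x = Y * q) : Y = 0 := by
  set f := algebraMap k[X] (FractionRing k[X]) with hf
  let φ : Matrix ι ι k[X] →+* Module.End (FractionRing k[X]) (ι → FractionRing k[X]) :=
    (Matrix.toLinAlgEquiv' (R := FractionRing k[X]) (n := ι)).toRingEquiv.toRingHom.comp f.mapMatrix
  have hφ : ∀ A v, φ A v = A.map f *ᵥ v := fun _ _ => rfl
  have mem : ∀ (A : Matrix ι ι k[X]) v, v ∈ Module.End.maxGenEigenspace (φ A) 0 ↔ ∃ i, φ (A ^ i) v = 0 :=
    fun A v => by simp [Module.End.mem_maxGenEigenspace]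
  set U := Module.End.maxGenEigenspace (φ N) 0 with hU
  have inv : ∀ x, ∀ u ∈ U, φ (Γ x) u ∈ U := fun x u hu => by
    obtain ⟨i, hi⟩ := (mem N u).1 hu
    refine (mem N _).2 ⟨i, ?_⟩
    rw [← Module.End.mul_apply, ← map_mul, ← ((hN x).pow_right i).eq, map_mul, Module.End.mul_apply, hi, map_zero]
  let Γ' : Λ →+* Module.End (FractionRing k[X]) U :=
    { toFun := fun x => (φ (Γ x)).restrict (inv x)
      map_one' := LinearMap.ext fun u => Subtype.ext (by simp)
      map_mul' := fun a b => LinearMap.ext fun u => Subtype.ext (by simp)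
      map_zero' := LinearMap.ext fun u => Subtype.ext (by simp)
      map_add' := fun a b => LinearMap.ext fun u => Subtype.ext (by simp) }
  have hΓ' : ∀ x (u : U), (Γ' x u : ι → FractionRing k[X]) = φ (Γ x) u := fun _ _ => rfl
  have rk : ∀ e, IsIdempotentElem e → finrank (FractionRing k[X]) (range (Γ' e)) ≤ (ρ e).rank := by
    intro e he
    set A := 1 - Γ e + Γ e * N with hA
    have a1 : ∀ i, A ^ i * Γ e = Γ e * N ^ i := fun i => by
      induction i with
      | zero => simp
      | succ i ih =>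
        have : A * Γ e = Γ e * N := by
          rw [hA, add_mul, sub_mul, one_mul, mul_assoc, ← (hN e).eq, ← mul_assoc, (he.map Γ).eq, sub_self, zero_add]
        rw [pow_succ', mul_assoc, ih, ← mul_assoc, this, pow_succ', mul_assoc]
    have a2 : A.map (eval 0) = 1 - δ * ρ e * ε := by
      have : A.map (eval 0) = 1 - (Γ e).map (eval 0) + (Γ e).map (eval 0) * N.map (eval 0) := by
        have := map_add (evalRingHom (0 : k)).mapMatrix (1 - Γ e) (Γ e * N)
        rw [map_sub, map_one, map_mul] at this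
        exact this
      rw [this, h0, mul_sub, mul_one, ← Matrix.mul_assoc, hδ]
      abel
    have a3 : ∀ i, ∃ Ψ : Matrix n ι k, A.map (eval 0) ^ i = 1 - δ * ρ e * Ψ := fun i => by
      induction i with
      | zero => exact ⟨0, by simp⟩
      | succ i ih =>
        obtain ⟨Ψ, hΨ⟩ := ih
        refine ⟨Ψ + ε - Ψ * (δ * ρ e * ε), ?_⟩
        rw [pow_succ, hΨ, a2, Matrix.mul_sub, Matrix.mul_sub, Matrix.mul_add, Matrix.mul_one, Matrix.sub_mul,
          Matrix.one_mul, Matrix.mul_assoc _ Ψ]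
        abel
    rw [← Submodule.finrank_map_subtype_eq]
    refine (Submodule.finrank_mono (t := Module.End.maxGenEigenspace (φ A) 0) ?_).trans
      ((finrank_maxGen_le A).trans ((Submodule.finrank_mono ?_).trans (Matrix.rank_mul_le_right δ (ρ e))))
    · rintro _ ⟨_, ⟨u, rfl⟩, rfl⟩
      obtain ⟨i, hi⟩ := (mem N u).1 u.2
      refine (mem A _).2 ⟨i, ?_⟩
      rw [Submodule.subtype_apply, hΓ', ← Module.End.mul_apply, ← map_mul, a1, map_mul, Module.End.mul_apply, hi,
        map_zero]
    · intro v hv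
      obtain ⟨i, hi⟩ := (Module.End.mem_maxGenEigenspace _ _ _).1 hv
      obtain ⟨Ψ, hΨ⟩ := a3 i
      rw [zero_smul, sub_zero, ← Matrix.toLin'_pow, hΨ, Matrix.toLin'_apply, Matrix.sub_mulVec, Matrix.one_mulVec,
        sub_eq_zero] at hi
      exact ⟨Ψ *ᵥ v, by rw [Matrix.mulVecLin_apply, Matrix.mulVec_mulVec, ← hi]⟩
  have sur : ∀ w : n → FractionRing k[X], ∃ u ∈ U, q.map f *ᵥ u = w := fun w => by
    obtain ⟨ψ, h1, h2⟩ := exists_eq_pow_rootMultiplicity_mul_and_not_dvd N.charpoly N.charpoly_monic.ne_zero 0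
    rw [map_zero, sub_zero] at h1 h2
    rw [X_dvd_iff] at h2
    have h3 := N.aeval_self_charpoly
    rw [h1, map_mul, map_pow, aeval_X] at h3
    have h4 : q * aeval N ψ * j = ψ.coeff 0 • (1 : Matrix n n k[X]) := by
      conv_lhs => rw [← X_mul_divX_add ψ]
      rw [map_add, map_mul, aeval_X, aeval_C, Matrix.mul_add, Matrix.add_mul, htr _ fun x => ?_, zero_add,
        Algebra.algebraMap_eq_smul_one, Matrix.mul_smul, Matrix.mul_one, Matrix.smul_mul, hqj]
      rw [aeval_eq_sum_range]
      exact Commute.sum_right _ _ _ fun i _ => ((hN x).pow_right i).smul_right _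
    have h5 : f (ψ.coeff 0) ≠ 0 := fun e => h2 ((map_eq_zero_iff _ (IsFractionRing.injective _ _)).1 e)
    refine ⟨φ (aeval N ψ) (j.map f *ᵥ ((f (ψ.coeff 0))⁻¹ • w)), (mem N _).2 ⟨_, by
      rw [← Module.End.mul_apply, ← map_mul, h3, map_zero, LinearMap.zero_apply]⟩, ?_⟩
    rw [hφ, Matrix.mulVec_mulVec, Matrix.mulVec_mulVec, ← Matrix.map_mul, ← Matrix.map_mul, h4,
      Matrix.map_smul' _ _ _ (map_mul f), Matrix.map_one _ (map_zero f) (map_one f), Matrix.smul_mulVec,
      Matrix.one_mulVec, smul_smul, mul_inv_cancel₀ h5, one_smul]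
  have hd : finrank (FractionRing k[X]) U = Fintype.card n := by
    refine le_antisymm ?_ ?_
    · have := rk 1 IsIdempotentElem.one
      rwa [map_one, map_one, Matrix.rank_one, Module.End.one_eq_id, range_id, finrank_top] at this
    · rw [← Module.finrank_fintype_fun_eq_card (FractionRing k[X])]
      refine finrank_le_finrank_of_surjective (f := (q.map f).mulVecLin.domRestrict U) fun w => ?_
      obtain ⟨u, hu, e⟩ := sur w
      exact ⟨⟨u, hu⟩, e⟩
  have key := rigid ρ hρ Γ' (fun c => LinearMap.ext fun u => Subtype.ext (by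
    rw [hΓ', AlgHom.commutes, hφ, Algebra.algebraMap_eq_smul_one, ← algebraMap_smul k[X],
      Matrix.map_smul' _ _ _ (map_mul f), Matrix.map_one _ (map_zero f) (map_one f), Matrix.smul_mulVec,
      Matrix.one_mulVec, hf, ← IsScalarTower.algebraMap_apply]
    rfl)) hd rk hx
  refine Matrix.map_injective (IsFractionRing.injective k[X] (FractionRing k[X])) ?_
  refine Matrix.ext_iff_mulVec.2 fun w => ?_
  obtain ⟨u, hu, rfl⟩ := sur w
  have := hΓ' x ⟨u, hu⟩
  rw [key, hφ] at this
  simp only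
  rw [Matrix.mulVec_mulVec, ← Matrix.map_mul, ← hY, Matrix.map_mul, ← Matrix.mulVec_mulVec, ← this]
  simp

end CL.MCN
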