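import Cfsg.Agent.FUS.MC.Defs

/-! # The one-parameter deformation along a normal subgroup of order `p` -/

set_option autoImplicit false

namespace CL.MCN

open Polynomial

namespace De

section pw
variable {p : ℕ} [Fact p.Prime] {M : Type*} [Monoid M] {z : M} (hz : z ^ p = 1)
include hz

omit [Fact p.Prime] in
theorem pow_mod (k : ℕ) : z ^ (k % p) = z ^ k := (pow_eq_pow_mod k hz).symm

theorem pow_val_add (a b : ZMod p) : z ^ (a + b).val = z ^ a.val * z ^ b.val := by
  rw [ZMod.val_add, pow_mod hz, pow_add]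

theorem pow_val_mul (a b : ZMod p) : z ^ (a * b).val = (z ^ a.val) ^ b.val := by
  rw [ZMod.val_mul, pow_mod hz, pow_mul]

theorem pow_val_inj (h1 : z ≠ 1) {a b : ZMod p} (h : z ^ a.val = z ^ b.val) : a = b := by
  have ho : orderOf z = p := orderOf_eq_prime hz h1
  exact ZMod.val_injective p (pow_injOn_Iio_orderOf (by rw [ho]; exact a.val_lt) (by rw [ho]; exact b.val_lt) h)

end pw

section interp
variable {p : ℕ} [Fact p.Prime] {R M : Type*} [CommRing R] [Algebra (ZMod p) R] [Ring M] [Algebra R M]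

/-- the Lagrange basis -/
def L (b : ZMod p) (x : R) : R := 1 - (x - algebraMap (ZMod p) R b) ^ (p - 1)

theorem L_apply (b c : ZMod p) : L b (algebraMap (ZMod p) R c) = if c = b then 1 else 0 := by
  rw [L, ← map_sub, ← map_pow, ZMod.pow_card_sub_one]
  by_cases h : c = b
  · simp [h]
  · simp [h, sub_eq_zero]

omit [Fact p.Prime] [Algebra (ZMod p) R] in
theorem natDegree_le (u v : R) : (1 - (C u * X + C v) ^ (p - 1) : R[X]).natDegree ≤ p - 1 := by
  refine (natDegree_sub_le _ _).trans (max_le (by simp) (natDegree_pow_le.trans ?_))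
  simpa using Nat.mul_le_mul_left (p - 1) (natDegree_linear_le (a := u) (b := v))

variable [IsDomain R]

theorem lagr {q : R[X]} (hq : q.natDegree ≤ p - 1) (x : R) :
    q.eval x = ∑ b : ZMod p, L b x * q.eval (algebraMap (ZMod p) R b) := by
  have ev : ∀ y, eval y (∑ b : ZMod p, (1 - (C 1 * X + C (-algebraMap (ZMod p) R b)) ^ (p - 1)) *
      C (q.eval (algebraMap (ZMod p) R b))) = ∑ b : ZMod p, L b y * q.eval (algebraMap (ZMod p) R b) := fun y => by
    simp [eval_finsetSum, L, sub_eq_add_neg]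
  have := eq_zero_of_natDegree_lt_card_of_eval_eq_zero (q - ∑ b : ZMod p,
    (1 - (C 1 * X + C (-algebraMap (ZMod p) R b)) ^ (p - 1)) * C (q.eval (algebraMap (ZMod p) R b)))
    (algebraMap (ZMod p) R).injective (fun c => by
      rw [eval_sub, ev]
      simp [L_apply]) (by
      refine lt_of_le_of_lt ((natDegree_sub_le _ _).trans (max_le hq (natDegree_sum_le_of_forall_le _ _
        fun b _ => (natDegree_mul_C_le _ _).trans (natDegree_le _ _)))) ?_
      rw [ZMod.card]
      exact Nat.sub_one_lt (Fact.out : p.Prime).ne_zero)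
  rw [← ev, ← sub_eq_zero.1 this]

variable (p) in
/-- functions determined by their values at the points of the prime field -/
def Low (f : R → M) : Prop := ∀ x, f x = ∑ b : ZMod p, L b x • f (algebraMap (ZMod p) R b)

omit [IsDomain R] in
theorem Low.ext {f g : R → M} (hf : Low p f) (hg : Low p g)
    (h : ∀ b, f (algebraMap (ZMod p) R b) = g (algebraMap (ZMod p) R b)) (x : R) : f x = g x := by
  rw [hf x, hg x]
  simp only [h]

omit [IsDomain R] in
theorem Low.mul {f : R → M} (hf : Low p f) (A B : M) : Low p fun x => A * f x * B := fun x => by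
  simp only
  conv_lhs => rw [hf x]
  simp [Finset.mul_sum, Finset.sum_mul]

variable (p) in
/-- `ζ ^ x` -/
def E (ζ : M) (x : R) : M := ∑ b : ZMod p, L b x • ζ ^ b.val

omit [IsDomain R] in
theorem E_apply (ζ : M) (c : ZMod p) : E p ζ (algebraMap (ZMod p) R c) = ζ ^ c.val := by
  simp [E, L_apply]

theorem low_E (ζ : M) (u v : R) : Low p fun x : R => E p ζ (u * x + v) := fun x => by
  simp only [E, Finset.smul_sum, smul_smul]
  rw [Finset.sum_comm]
  refine Finset.sum_congr rfl fun b _ => ?_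
  rw [← Finset.sum_smul]
  congr 1
  simpa [L, add_sub_assoc] using lagr (natDegree_le (p := p) u (v - algebraMap (ZMod p) R b)) x

theorem low_E' (ζ A B : M) : Low p fun x : R => A * E p ζ x * B := by
  simpa using (low_E (p := p) ζ (1 : R) 0).mul A B

theorem E_add {ζ : M} (hζ : ζ ^ p = 1) (x y : R) : E p ζ (x + y) = E p ζ x * E p ζ y := by
  have h1 : ∀ b : ZMod p, E p ζ (1 * x + algebraMap (ZMod p) R b) =
      1 * E p ζ x * E p ζ (algebraMap (ZMod p) R b) := fun b =>
    (low_E ζ 1 _).ext (low_E' ζ 1 _) (fun c => by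
      simp only [one_mul]
      rw [← map_add, E_apply, E_apply, E_apply, pow_val_add hζ]) x
  simpa [add_comm] using (low_E ζ 1 x).ext (low_E' ζ (E p ζ x) 1) (fun c => by
    simpa [add_comm] using h1 c) y

theorem E_conj {ζ B : M} (hζ : ζ ^ p = 1) {m : ZMod p} (h : B * ζ = ζ ^ m.val * B) (x : R) :
    B * E p ζ x = E p ζ (algebraMap (ZMod p) R m * x) * B := by
  simpa using (low_E' ζ B 1).ext ((low_E ζ (algebraMap (ZMod p) R m) 0).mul 1 B) (fun c => by
    simp only [one_mul, mul_one, add_zero]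
    rw [← map_mul, E_apply, E_apply, pow_val_mul hζ]
    exact (SemiconjBy.pow_right h c.val).eq) x

theorem E_eq (ζ : M) (x : R) :
    E p ζ x = 1 + (ζ - 1) * ∑ b : ZMod p, L b x • ∑ l ∈ Finset.range b.val, ζ ^ l := by
  have h1 : ∑ b : ZMod p, L b x = 1 := by simpa using (lagr (p := p) (q := (1 : R[X])) (by simp) x).symm
  simp only [Finset.mul_sum Finset.univ, mul_smul_comm, mul_geom_sum, smul_sub, Finset.sum_sub_distrib]
  rw [← Finset.sum_smul, h1, one_smul, add_sub_cancel, E]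

end interp

section filt
variable {R : Type*} [Ring R] (D : R)

/-- the filtration -/
def Pf (i : ℕ) : AddSubgroup R := AddSubgroup.closure {x | ∃ a b Y, a + b = i ∧ x = D ^ a * Y * D ^ b}

variable {D}

theorem Pf_eq_zero {p i : ℕ} (hD : D ^ p = 0) (hi : 2 * p ≤ i + 1) {x : R} (hx : x ∈ Pf D i) : x = 0 := by
  refine AddSubgroup.mem_bot.1 ((AddSubgroup.closure_le ⊥).2 ?_ hx)
  rintro _ ⟨a, b, Y, h, rfl⟩
  by_cases ha : p ≤ a
  · simp [pow_eq_zero_of_le ha hD]
  · simp [pow_eq_zero_of_le (show p ≤ b by omega) hD]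

theorem Pf_step {k : Type*} [CommRing k] [Algebra k R] {T : Module.End k R} {g g' u : R} {e : ℕ}
    (hT : ∀ Y, T Y = g * Y * g') (hg : g = 1 + D ^ e * u) (hu : Commute u D) (h1 : g * g' = 1) (h2 : Commute g' D)
    (m : ℕ) {i : ℕ} {x : R} (hx : x ∈ Pf D i) : ((T - 1) ^ m) x ∈ Pf D (i + m * e) := by
  have one : ∀ i, ∀ x ∈ Pf D i, (T - 1) x ∈ Pf D (i + e) := fun i x hx => by
    refine (AddSubgroup.closure_le ((Pf D (i + e)).comap (T - 1).toAddMonoidHom)).2 ?_ hx
    rintro _ ⟨a, b, Y, h, rfl⟩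
    have e1 : (T - 1) (D ^ a * Y * D ^ b) =
        D ^ (a + e) * (u * Y * g') * D ^ b - D ^ a * (Y * u * g') * D ^ (b + e) := by
      have c1 : D ^ (a + e) * (u * Y * g') * D ^ b = D ^ e * u * (D ^ a * Y * D ^ b) * g' := by
        rw [add_comm, pow_add]
        simp only [mul_assoc]
        rw [(h2.pow_right b).eq, ← mul_assoc (D ^ a) u, ← (hu.pow_right a).eq, mul_assoc]
      have c2 : D ^ a * (Y * u * g') * D ^ (b + e) = D ^ a * Y * D ^ b * (D ^ e * u) * g' := by
        simp only [mul_assoc]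
        rw [(h2.pow_right _).eq, ← mul_assoc u, (hu.pow_right _).eq, pow_add]
        simp only [mul_assoc]
      have c3 : ∀ W : R, g * W * g' - W = D ^ e * u * W * g' - W * (D ^ e * u) * g' := fun W => by
        have : g * W * g' - W = g * W * g' - W * g * g' := by rw [mul_assoc W, h1, mul_one]
        rw [this, hg]
        noncomm_ring
      rw [c1, c2, LinearMap.sub_apply, hT, Module.End.one_apply, c3]
    change (T - 1) (D ^ a * Y * D ^ b) ∈ Pf D (i + e)
    rw [e1]
    exact sub_mem (AddSubgroup.subset_closure ⟨_, _, _, by omega, rfl⟩)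
      (AddSubgroup.subset_closure ⟨_, _, _, by omega, rfl⟩)
  induction m with
  | zero => simpa using hx
  | succ m ih =>
    rw [pow_succ', Module.End.mul_apply, add_mul, one_mul, ← add_assoc]
    exact one _ _ ih

end filt

theorem sum_pow {p : ℕ} [Fact p.Prime] {R : Type*} [Ring R] [Algebra (ZMod p) R] (x : R) :
    ∑ i : ZMod p, x ^ i.val = (x - 1) ^ (p - 1) := by
  have h1 : ∑ i ∈ Finset.range p, (X : (ZMod p)[X]) ^ i = (X - 1) ^ (p - 1) := by
    refine mul_left_cancel₀ (X_sub_C_ne_zero 1) ?_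
    have := sub_one_pow (p := p) (X : (ZMod p)[X]) 1
    rw [pow_one] at this
    rw [C_1, mul_geom_sum, ← pow_succ', Nat.sub_add_cancel (Fact.out : p.Prime).pos, this]
  have h2 : ∑ i : ZMod p, x ^ i.val = ∑ i ∈ Finset.range p, x ^ i :=
    Finset.sum_nbij' (fun i => i.val) (fun k => (k : ZMod p)) (fun i _ => Finset.mem_range.2 i.val_lt)
      (fun _ _ => Finset.mem_univ _) (fun i _ => ZMod.natCast_zmod_val i)
      (fun k hk => ZMod.val_cast_of_lt (Finset.mem_range.1 hk)) fun _ _ => rfl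
  simpa [h2] using congrArg (aeval x) h1

end De

open De in
/-- transfer -/
theorem exists_cocycle {p : ℕ} [Fact p.Prime] {H : Type*} [Group H] [Finite H] {z : H} (hz : z ^ p = 1) (hz1 : z ≠ 1)
    (hn : (Subgroup.zpowers z).Normal) (T : Subgroup H) (hT : ¬ p ∣ T.index) (hzT : z ∈ T) (hc : ∀ t ∈ T, Commute t z)
    (a₀ : T →* Multiplicative (ZMod p)) (ha₀ : a₀ ⟨z, hzT⟩ = Multiplicative.ofAdd 1) :
    ∃ a μ : H → ZMod p, (∀ g h, a (g * h) = a g + μ g * a h) ∧ (∀ h, h * z * h⁻¹ = z ^ (μ h).val) ∧ a z = 1 := by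
  have := Fintype.ofFinite (H ⧸ T)
  have hμ : ∀ h : H, ∃ m : ZMod p, h * z * h⁻¹ = z ^ m.val := fun h => by
    obtain ⟨k, hk⟩ := mem_powers_iff_mem_zpowers.2 (hn.conj_mem z (Subgroup.mem_zpowers z) h)
    exact ⟨k, by rw [ZMod.val_natCast, pow_mod hz]; exact hk.symm⟩
  choose μ hμ using hμ
  have μm : ∀ g h, μ (g * h) = μ g * μ h := fun g h => pow_val_inj hz hz1 (by
    rw [← hμ, pow_val_mul hz, ← hμ, conj_pow, ← hμ]
    group)
  have μT : ∀ t ∈ T, μ t = 1 := fun t ht => pow_val_inj hz hz1 (by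
    rw [← hμ, (hc t ht).eq, ZMod.val_one, pow_one, mul_inv_cancel_right])
  have mem : ∀ (h : H) (c : H ⧸ T), (h • c).out⁻¹ * h * c.out ∈ T := fun h c => by
    rw [mul_assoc, ← QuotientGroup.eq, QuotientGroup.out_eq']
    conv_lhs => rw [← c.out_eq']
    rfl
  have μr : ∀ (g : H) (c : H ⧸ T), μ (g • c).out = μ g * μ c.out := fun g c => by
    rw [← μm, ← mul_one (μ (g • c).out), ← μT _ (mem g c), ← μm]
    congr 1
    group
  set a : H → ZMod p := fun h => ∑ c : H ⧸ T, μ (h • c).out * Multiplicative.toAdd (a₀ ⟨_, mem h c⟩) with ha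
  have hi : (T.index : ZMod p) ≠ 0 := fun e => hT ((ZMod.natCast_eq_zero_iff _ _).1 e)
  refine ⟨fun h => (T.index : ZMod p)⁻¹ * a h, μ, fun g h => ?_, hμ, ?_⟩
  · rw [mul_left_comm, ← mul_add]
    refine congrArg _ ?_
    simp only [ha]
    rw [Finset.mul_sum, ← Equiv.sum_comp (MulAction.toPerm h)
      fun c => μ (g • c).out * Multiplicative.toAdd (a₀ ⟨_, mem g c⟩), ← Finset.sum_add_distrib]
    refine Finset.sum_congr rfl fun c _ => ?_
    have e : (⟨_, mem (g * h) c⟩ : T) = ⟨_, mem g (h • c)⟩ * ⟨_, mem h c⟩ := Subtype.ext (by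
      simp only [mul_smul, Subgroup.coe_mul]
      group)
    rw [e, map_mul, toAdd_mul, mul_add, ← mul_assoc, ← μr, mul_smul]
    rfl
  · have e : a z = T.index := by
      have e1 : ∀ c : H ⧸ T, μ (z • c).out * Multiplicative.toAdd (a₀ ⟨_, mem z c⟩) = 1 := fun c => by
        have h1 := hμ c.out⁻¹
        rw [inv_inv] at h1
        have h2 : z • c = c := by
          rw [eq_comm]
          conv_lhs => rw [← c.out_eq']
          conv_rhs => rw [← c.out_eq']
          refine QuotientGroup.eq.2 ?_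
          change c.out⁻¹ * (z * c.out) ∈ T
          rw [← mul_assoc, h1]
          exact T.pow_mem hzT _
        have h3 : (⟨_, mem z c⟩ : T) = ⟨z, hzT⟩ ^ (μ c.out⁻¹).val := Subtype.ext (by
          simp only [h2]
          exact h1)
        rw [h3, map_pow, ha₀, h2, toAdd_pow, toAdd_ofAdd, nsmul_eq_mul, mul_one, ZMod.natCast_zmod_val, ← μm,
          mul_inv_cancel, μT 1 T.one_mem]
      simp only [ha, e1]
      rw [Finset.sum_const, Finset.card_univ, nsmul_eq_mul, mul_one, Subgroup.index, Nat.card_eq_fintype_card]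
    simp only
    rw [e, inv_mul_cancel₀ hi]

open De in
/-- interpolation -/
theorem exists_deform {p : ℕ} [Fact p.Prime] {H n : Type*} [Group H] [Fintype n] [DecidableEq n]
    (ρ : H →* Matrix n n (ZMod p)) {z : H} (hz : z ^ p = 1) (hz1 : z ≠ 1) (a μ : H → ZMod p)
    (ha : ∀ g h, a (g * h) = a g + μ g * a h) (hμ : ∀ h, h * z * h⁻¹ = z ^ (μ h).val) (haz : a z = 1) :
    ∃ σ : H →* Matrix n n (ZMod p)[X], (∀ h, (σ h).map (eval 0) = ρ h) ∧ (∀ h, a h = 0 → σ h = (ρ h).map C) ∧
      (σ z).map (eval (-1)) = 1 ∧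
      ∃ w, σ z = 1 + (ρ z - 1).map C * w ∧ ∀ B, Commute B ((ρ z).map C) → Commute B w := by
  let ρ' : H →* Matrix n n (ZMod p)[X] := (C : ZMod p →+* (ZMod p)[X]).mapMatrix.toMonoidHom.comp ρ
  have e' : ∀ h, ρ' h = (ρ h).map C := fun _ => rfl
  have hζ : ρ' z ^ p = 1 := by rw [← map_pow, hz, map_one]
  have EC : ∀ c : ZMod p, E p (ρ' z) (C c) = ρ' z ^ c.val := fun c => E_apply _ c
  have E0 : E p (ρ' z) (0 : (ZMod p)[X]) = 1 := by simpa using EC 0
  have a1 : a 1 = 0 := by
    have h1 := ha 1 1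
    have h2 : μ 1 ≠ 0 := fun e => hz1 (by simpa [e] using hμ 1)
    rw [mul_one, left_eq_add] at h1
    exact (mul_eq_zero.1 h1).resolve_left h2
  have ev : ∀ (c : ZMod p) (h : H), (ρ' h).map (eval c) = ρ h := fun c h => by
    ext i j
    simp [e']
  have evE : ∀ (c : ZMod p) (x : (ZMod p)[X]), (E p (ρ' z) x).map (eval c) = ρ z ^ (x.eval c).val := fun c x => by
    rw [← E_apply (R := ZMod p)]
    refine (map_sum (evalRingHom c).mapMatrix _ _).trans (Finset.sum_congr rfl fun b _ => ?_)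
    rw [← map_pow, ← map_pow, ← ev c]
    ext i j
    simp [L]
  let σ : H →* Matrix n n (ZMod p)[X] :=
    { toFun := fun h => E p (ρ' z) (X * C (a h)) * ρ' h
      map_one' := by rw [a1, map_zero, mul_zero, E0, map_one, mul_one]
      map_mul' := fun g h => by
        have := E_conj hζ (B := ρ' g) (m := μ g) (by rw [← map_pow, ← hμ, ← map_mul, ← map_mul]; simp)
          (X * C (a h))
        rw [mul_assoc, ← mul_assoc (ρ' g), this, ha, map_add, mul_add, E_add hζ, map_mul, map_mul, mul_left_comm X]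
        simp only [mul_assoc]
        rfl }
  have hσ : ∀ h, σ h = E p (ρ' z) (X * C (a h)) * ρ' h := fun _ => rfl
  have hσz : σ z = E p (ρ' z) (X + 1 : (ZMod p)[X]) := by
    rw [hσ, haz, E_add hζ, ← C_1, EC, ZMod.val_one, pow_one, C_1, mul_one]
  refine ⟨σ, fun h => ?_, fun h e => ?_, ?_,
    ∑ b : ZMod p, L b (X + 1 : (ZMod p)[X]) • ∑ l ∈ Finset.range b.val, ρ' z ^ l,
    hσz.trans ((E_eq _ _).trans ?_), fun B hB => ?_⟩
  · rw [hσ]
    refine (Matrix.map_mul (f := evalRingHom (0 : ZMod p))).trans ?_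
    rw [coe_evalRingHom, evE, ev]
    simp
  · rw [hσ, e, map_zero, mul_zero, E0, one_mul, e']
  · rw [hσz, evE]
    simp
  · congr 2
    exact (map_sub (C : ZMod p →+* (ZMod p)[X]).mapMatrix (ρ z) 1).trans (by rw [map_one]; rfl) |>.symm
  · exact Commute.sum_right _ _ _ fun b _ => (Commute.sum_right _ _ _ fun l _ => hB.pow_right l).smul_right _

open De in
/-- the norm map of the conjugation action vanishes -/
theorem norm_kill {p : ℕ} [Fact p.Prime] {R : Type*} [Ring R] [Algebra (ZMod p) R] {D u : R} (hD : D ^ p = 0)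
    (hu : Commute u D) (ψ : Multiplicative (ZMod p × ZMod p) →* R) (h1 : ψ (Multiplicative.ofAdd (1, 0)) = 1 + D)
    (h2 : ψ (Multiplicative.ofAdd (0, 1)) = 1 + D ^ 2 * u) (Y : R) : ∑ a, ψ a * Y * ψ a⁻¹ = 0 := by
  let Λ : Multiplicative (ZMod p × ZMod p) →* Module.End (ZMod p) R :=
    { toFun := fun a => LinearMap.mulLeft _ (ψ a) * LinearMap.mulRight _ (ψ a⁻¹)
      map_one' := LinearMap.ext fun Y => by simp
      map_mul' := fun a b => LinearMap.ext fun Y => by
        rw [mul_inv_rev, map_mul, map_mul]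
        simp [mul_assoc] }
  have hΛ : ∀ a Y, Λ a Y = ψ a * Y * ψ a⁻¹ := fun a Y => (mul_assoc _ _ _).symm
  have hc : ∀ a, Commute (ψ a) D := fun a => by
    have := ((Commute.all a (Multiplicative.ofAdd (1, 0))).map ψ).sub_right (Commute.one_right _)
    rwa [h1, add_sub_cancel_left] at this
  have hi : ∀ a, ψ a * ψ a⁻¹ = 1 := fun a => by rw [← map_mul, mul_inv_cancel, map_one]
  have e : ∑ a, Λ a = (Λ (Multiplicative.ofAdd (1, 0)) - 1) ^ (p - 1) *
      (Λ (Multiplicative.ofAdd (0, 1)) - 1) ^ (p - 1) := by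
    rw [← sum_pow, ← sum_pow, Finset.sum_mul_sum, ← Equiv.sum_comp Multiplicative.ofAdd, Fintype.sum_prod_type]
    refine Finset.sum_congr rfl fun i _ => Finset.sum_congr rfl fun j _ => ?_
    rw [← map_pow Λ, ← map_pow Λ, ← map_mul Λ, ← ofAdd_nsmul, ← ofAdd_nsmul, ← ofAdd_add]
    simp
  have y0 : Y ∈ Pf D 0 := AddSubgroup.subset_closure ⟨0, 0, Y, rfl, by simp⟩
  have y1 := Pf_step (hΛ _) h2 hu (hi _) (hc _) (p - 1) y0
  have y2 := Pf_step (e := 1) (u := 1) (hΛ _) (by rw [h1]; simp) (Commute.one_left D) (hi _) (hc _) (p - 1) y1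
  have two := (Fact.out : p.Prime).two_le
  rw [← Module.End.mul_apply, ← e, LinearMap.sum_apply] at y2
  simpa only [hΛ] using Pf_eq_zero hD (by omega) y2

end CL.MCN
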