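import Mathlib
import Cfsg.Agent.FUS.SylIn

/-!
# Groups with a strongly `p`-embedded subgroup and an element with a single Jordan block

`Jb D`: `D` is a nilpotent endomorphism with a single Jordan block. `Ctx`: the linear situation coming from an essential
subgroup `γ_i(S)` of a `p`-group `S` of maximal class.
-/

set_option autoImplicit false

namespace CL.MCN

open Module LinearMap Polynomial

section jb
variable {k V : Type*} [Field k] [AddCommGroup V] [Module k V]

/-- nilpotent with a single Jordan block -/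
structure Jb (D : Module.End k V) : Prop where
  nil : IsNilpotent D
  ker_le : finrank k (ker D) ≤ 1

theorem range_pow_succ_le (D : Module.End k V) (j : ℕ) : range (D ^ (j + 1)) ≤ range (D ^ j) := by
  rintro _ ⟨v, rfl⟩
  exact ⟨D v, by rw [pow_succ, Module.End.mul_apply]⟩

theorem range_pow_anti (D : Module.End k V) {i j : ℕ} (h : i ≤ j) : range (D ^ j) ≤ range (D ^ i) := by
  obtain ⟨l, rfl⟩ := Nat.exists_eq_add_of_le h
  rintro _ ⟨v, rfl⟩
  exact ⟨(D ^ l) v, by rw [pow_add, Module.End.mul_apply]⟩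

theorem apply_mem_range_pow {D : Module.End k V} {j : ℕ} {v : V} (h : v ∈ range (D ^ j)) :
    D v ∈ range (D ^ (j + 1)) := by
  obtain ⟨u, rfl⟩ := h
  exact ⟨u, by rw [pow_succ', Module.End.mul_apply]⟩

variable [Module.Finite k V]

theorem finrank_ker_pow_le {D : Module.End k V} (h : finrank k (ker D) ≤ 1) (j : ℕ) :
    finrank k (ker (D ^ j)) ≤ j := by
  induction j with
  | zero => simp [Module.End.one_eq_id]
  | succ j ih =>
    let f : ker (D ^ (j + 1)) →ₗ[k] ker D := ((D ^ j).domRestrict _).codRestrict _ fun v => by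
      obtain ⟨v, hv⟩ := v
      rw [mem_ker, pow_succ', Module.End.mul_apply] at hv
      exact hv
    have h1 := f.finrank_range_add_finrank_ker
    have h2 : finrank k (range f) ≤ 1 := (Submodule.finrank_le _).trans h
    have h3 : finrank k (ker f) ≤ finrank k (ker (D ^ j)) := by
      rw [← Submodule.finrank_map_subtype_eq]
      refine Submodule.finrank_mono ?_
      rintro _ ⟨v, hv, rfl⟩
      exact congrArg Subtype.val (mem_ker.1 hv)
    omega

namespace Jb
variable {D : Module.End k V} (h : Jb D)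
include h

omit [Module.Finite k V] in
theorem eq_bot_of_le {j : ℕ} (e : range (D ^ j) ≤ range (D ^ (j + 1))) : D ^ j = 0 := by
  obtain ⟨N, hN⟩ := h.nil
  have key : ∀ l, range (D ^ j) ≤ range (D ^ (j + l)) := fun l => by
    induction l with
    | zero => exact le_rfl
    | succ l ih =>
      intro v hv
      obtain ⟨u, rfl⟩ := e hv
      rw [pow_succ', Module.End.mul_apply]
      exact apply_mem_range_pow (ih ⟨u, rfl⟩)
  have := key N
  rw [pow_add, hN, mul_zero, range_zero, le_bot_iff] at this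
  exact range_eq_bot.1 this

theorem finrank_range_pow (j : ℕ) : finrank k (range (D ^ j)) = finrank k V - j := by
  refine le_antisymm ?_ ?_
  · induction j with
    | zero => exact Submodule.finrank_le _
    | succ j ih =>
      by_cases e : range (D ^ j) ≤ range (D ^ (j + 1))
      · rw [pow_succ, h.eq_bot_of_le e, zero_mul, range_zero, finrank_bot]
        exact Nat.zero_le _
      · have := Submodule.finrank_lt_finrank_of_lt (lt_of_le_not_ge (range_pow_succ_le D j) e)
        omega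
  · have := (D ^ j).finrank_range_add_finrank_ker
    have := finrank_ker_pow_le h.ker_le j
    omega

theorem pow_eq_zero_iff {j : ℕ} : D ^ j = 0 ↔ finrank k V ≤ j := by
  rw [← range_eq_bot, ← Submodule.finrank_eq_zero, h.finrank_range_pow, Nat.sub_eq_zero_iff_le]

theorem finrank_ker_pow {j : ℕ} (hj : j ≤ finrank k V) : finrank k (ker (D ^ j)) = j := by
  have := (D ^ j).finrank_range_add_finrank_ker
  rw [h.finrank_range_pow] at this
  omega

theorem ker_pow {i j : ℕ} (hj : i + j = finrank k V) : ker (D ^ i) = range (D ^ j) := by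
  refine (Submodule.eq_of_le_of_finrank_eq ?_ ?_).symm
  · rintro _ ⟨v, rfl⟩
    rw [mem_ker, ← Module.End.mul_apply, ← pow_add, h.pow_eq_zero_iff.2 hj.ge, LinearMap.zero_apply]
  · rw [h.finrank_range_pow, h.finrank_ker_pow (by omega)]
    omega

/-- each step of the flag is one-dimensional -/
theorem exists_smul {j : ℕ} {u v : V} (hu : u ∈ range (D ^ j)) (hu' : u ∉ range (D ^ (j + 1)))
    (hv : v ∈ range (D ^ j)) : ∃ c : k, v - c • u ∈ range (D ^ (j + 1)) := by
  have h1 : range (D ^ (j + 1)) < range (D ^ (j + 1)) ⊔ k ∙ u :=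
    left_lt_sup.2 fun e => hu' (e (Submodule.mem_span_singleton_self u))
  have h2 : range (D ^ (j + 1)) ⊔ k ∙ u = range (D ^ j) := by
    refine Submodule.eq_of_le_of_finrank_le (sup_le (range_pow_succ_le D j)
      ((Submodule.span_singleton_le_iff_mem _ _).2 hu)) ?_
    have := Submodule.finrank_lt_finrank_of_lt h1
    rw [h.finrank_range_pow] at this ⊢
    omega
  rw [← h2] at hv
  obtain ⟨a, ha, b, hb, rfl⟩ := Submodule.mem_sup.1 hv
  obtain ⟨c, rfl⟩ := Submodule.mem_span_singleton.1 hb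
  exact ⟨c, by simpa using ha⟩

/-- a cyclic vector -/
theorem exists_cyclic : ∃ v₀ : V, ∀ v, ∃ f : k[X], v = aeval D f v₀ := by
  by_cases h0 : range (D ^ 0) ≤ range (D ^ (0 + 1))
  · have := h.eq_bot_of_le h0
    exact ⟨0, fun v => ⟨0, by simpa using congrArg (fun f : Module.End k V => f v) this⟩⟩
  obtain ⟨v₀, hv, hv'⟩ := SetLike.not_le_iff_exists.1 h0
  have key : ∀ j v, ∃ f : k[X], v - aeval D f v₀ ∈ range (D ^ j) := fun j => by
    induction j with
    | zero => exact fun v => ⟨0, ⟨_, rfl⟩⟩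
    | succ j ih =>
      intro v
      obtain ⟨c, u, hu⟩ := h.exists_smul hv hv' (v := v) ⟨v, rfl⟩
      obtain ⟨f, hf⟩ := ih u
      refine ⟨C c + X * f, ?_⟩
      have := apply_mem_range_pow hf
      convert this using 1
      simp only [zero_add, pow_one] at hu
      simp [hu, sub_sub]
  refine ⟨v₀, fun v => ?_⟩
  obtain ⟨f, hf⟩ := key (finrank k V) v
  rw [h.pow_eq_zero_iff.2 le_rfl, range_zero, Submodule.mem_bot, sub_eq_zero] at hf
  exact ⟨f, hf⟩

/-- the commutant consists of the polynomials in `D` -/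
theorem exists_poly {φ : Module.End k V} (hc : Commute φ D) : ∃ f : k[X], φ = aeval D f := by
  obtain ⟨v₀, hv⟩ := h.exists_cyclic
  obtain ⟨f, hf⟩ := hv (φ v₀)
  refine ⟨f, LinearMap.ext fun v => ?_⟩
  obtain ⟨g, rfl⟩ := hv v
  have h1 : Commute φ (aeval D g) := by
    rw [aeval_eq_sum_range]
    exact Commute.sum_right _ _ _ fun i _ => (hc.pow_right i).smul_right _
  rw [← Module.End.mul_apply, h1.eq, Module.End.mul_apply, hf, ← Module.End.mul_apply, ← Module.End.mul_apply,
    ← map_mul, ← map_mul, mul_comm]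

theorem commute_of_commute {φ ψ : Module.End k V} (h1 : Commute φ D) (h2 : Commute ψ D) : Commute φ ψ := by
  obtain ⟨f, rfl⟩ := h.exists_poly h1
  obtain ⟨g, rfl⟩ := h.exists_poly h2
  exact (Commute.all f g).map _

/-- a non-zero endomorphism commuting with `D` is `D ^ d` times a unit -/
theorem exists_pow_mul {φ : Module.End k V} (hc : Commute φ D) (h0 : φ ≠ 0) :
    ∃ (d : ℕ) (g : k[X]), d < finrank k V ∧ g.coeff 0 ≠ 0 ∧ φ = D ^ d * aeval D g := by
  obtain ⟨f, rfl⟩ := h.exists_poly hc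
  have hf : f ≠ 0 := fun e => h0 (by rw [e, map_zero])
  obtain ⟨g, hg, hn⟩ := exists_eq_pow_rootMultiplicity_mul_and_not_dvd f hf 0
  rw [map_zero, sub_zero] at hg hn
  have e : aeval D f = D ^ rootMultiplicity 0 f * aeval D g := by
    conv_lhs => rw [hg]
    simp
  refine ⟨_, g, lt_of_not_ge fun hle => h0 ?_, fun e0 => hn (X_dvd_iff.2 e0), e⟩
  rw [e, h.pow_eq_zero_iff.2 hle, zero_mul]

omit [Module.Finite k V] in
theorem isUnit_aeval {g : k[X]} (hg : g.coeff 0 ≠ 0) : IsUnit (aeval D g) := by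
  conv => rhs; rw [← divX_mul_X_add g]
  rw [map_add, map_mul, aeval_X, aeval_C]
  refine IsNilpotent.isUnit_add_right_of_commute ?_ ((Ne.isUnit hg).map _) (Algebra.commutes _ _).symm
  refine Commute.isNilpotent_mul_left ?_ h.nil
  conv => rhs; rw [← aeval_X (R := k) D]
  exact (Commute.all _ _).map _

end Jb
end jb

/-- The linear situation: `ρ` is a faithful representation over `𝔽_p`, `T` a Sylow `p`-subgroup, `T = ⟨s⟩ T1`, `s` has a
single Jordan block, `C_{T1}(s) = ⟨z⟩` has order `p`, `T1` centralizes all the two-step quotients of the flag of `s` but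
possibly the last one, and `H` is strongly `p`-embedded. -/
structure Ctx (p : ℕ) [Fact p.Prime] {G V : Type*} [Group G] [AddCommGroup V] [Module (ZMod p) V]
    (ρ : G →* Module.End (ZMod p) V) (T T1 H : Subgroup G) (s z : G) : Prop where
  inj : Function.Injective ρ
  syl : CL.Fus.SylIn p T ⊤
  s_mem : s ∈ T
  le : T1 ≤ T
  conj : ∀ t ∈ T, ∀ u ∈ T1, t * u * t⁻¹ ∈ T1
  gen : ∀ t ∈ T, ∃ a : ℕ, ∃ u ∈ T1, t = s ^ a * u
  s_pow : s ^ p = 1
  z_mem : z ∈ T1
  z_ne : z ≠ 1
  z_pow : z ^ p = 1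
  comm : Commute z s
  cent : ∀ u ∈ T1, Commute u s → u ∈ Subgroup.zpowers z
  ker_le : finrank (ZMod p) (ker (ρ s - 1)) ≤ 1
  deg1 : ∀ t ∈ T, ∀ j, ∀ v ∈ range ((ρ s - 1) ^ j), (ρ t - 1) v ∈ range ((ρ s - 1) ^ (j + 1))
  deg2 : ∀ u ∈ T1, ∀ j, (ρ s - 1) ^ (j + 2) ≠ 0 → ∀ v ∈ range ((ρ s - 1) ^ j),
    (ρ u - 1) v ∈ range ((ρ s - 1) ^ (j + 2))
  degz : ∀ v, (ρ z - 1) v ∈ range ((ρ s - 1) ^ 2)
  le_H : T ≤ H
  ne_top : H ≠ ⊤
  se : ∀ g x, x ∈ H → x ≠ 1 → x ^ p = 1 → g * x * g⁻¹ ∈ H → g ∈ H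

theorem sub_one_pow {p : ℕ} [Fact p.Prime] {R : Type*} [Ring R] [Algebra (ZMod p) R] (x : R) (j : ℕ) :
    (x - 1) ^ p ^ j = x ^ p ^ j - 1 := by
  nontriviality R
  have : CharP R p := charP_of_injective_algebraMap (algebraMap (ZMod p) R).injective p
  rw [sub_pow_char_pow_of_commute p j (Commute.one_right x), one_pow]

namespace Ctx
variable {p : ℕ} [Fact p.Prime] {G V : Type*} [Group G] [AddCommGroup V] [Module (ZMod p) V]
  {ρ : G →* Module.End (ZMod p) V} {T T1 H : Subgroup G} {s z : G} (h : Ctx p ρ T T1 H s z)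
include h

theorem D_pow : (ρ s - 1) ^ p = 0 := by
  simpa [← map_pow, h.s_pow] using sub_one_pow (p := p) (ρ s) 1

theorem jb : Jb (ρ s - 1) := ⟨⟨p, h.D_pow⟩, h.ker_le⟩

theorem finrank_le [Module.Finite (ZMod p) V] : finrank (ZMod p) V ≤ p := h.jb.pow_eq_zero_iff.1 h.D_pow

/-- an element acting unipotently is a `p`-element -/
theorem pow_eq_one_of_nil {x : G} (hx : IsNilpotent (ρ x - 1)) : ∃ j, x ^ p ^ j = 1 := by
  obtain ⟨N, hN⟩ := hx
  refine ⟨N, h.inj ?_⟩
  rw [map_pow, map_one, ← sub_eq_zero, ← sub_one_pow (p := p)]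
  exact pow_eq_zero_of_le (Nat.lt_pow_self (Fact.out : p.Prime).one_lt).le hN

end Ctx

end CL.MCN
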