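import Cfsg.Agent.FUS.MC.Defs
import Cfsg.Agent.FGS.MaxCl3
import Cfsg.Agent.PLOC.PFrattini
import Cfsg.Agent.FUS.QuadCent

/-! # The action of a `p`-group of maximal class on an elementary abelian quotient of `γ_i` -/

set_option autoImplicit false

namespace CL.MCN

open Subgroup CL.MaxCl Module LinearMap
open scoped commutatorElement

universe u

namespace Fu

section mc
variable {S : Type*} [Group S] [Finite S] {p n : ℕ} [Fact p.Prime] (h : IsMC p n S) (h4 : 4 ≤ n) {s : S}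
  (hs : Unif n s)
include h h4 hs

theorem P_succ_le_of_comm {M : Subgroup S} {a : ℕ} (ha : 1 ≤ a) (hM : ∀ x ∈ P S a, ⁅s, x⁆ ∈ M) :
    P S (a + 1) ≤ M := by
  have key : ∀ m b, n ≤ b + m + 1 → a ≤ b → P S (b + 1) ≤ M := by
    intro m
    induction m with
    | zero => intro b hb _; rw [h.P_eq_bot hb]; exact bot_le
    | succ m ih =>
      intro b hb hab
      by_cases e : n ≤ b + 1
      · rw [h.P_eq_bot e]; exact bot_le
      obtain ⟨c, hc, hc'⟩ := h.exists_mem_not_mem (i := b) (Or.inr h4) (by omega)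
      rw [h.sup_zpowers (Or.inr h4) (comm_mem (by omega) s hc)
        fun e' => hc' (h.reg_of_unif h4 hs (by omega) (by omega) c hc e')]
      exact sup_le (ih (b + 1) (by omega) (by omega)) (zpowers_le.2 (hM c (P_anti hab hc)))
  exact key n a (by omega) le_rfl

theorem P_le_of_mem {E : Subgroup S} (hsE : s ∈ E) {t : ℕ} (ht : 1 ≤ t) {x : S} (hx : x ∈ E) (h1 : x ∈ P S t)
    (h2 : x ∉ P S (t + 1)) : P S t ≤ E := by
  have key : ∀ m t, n ≤ t + m → 1 ≤ t → ∀ x ∈ E, x ∈ P S t → x ∉ P S (t + 1) → P S t ≤ E := by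
    intro m
    induction m with
    | zero => intro t ht _ _ _ _ _; rw [h.P_eq_bot (i := t) ht]; exact bot_le
    | succ m ih =>
      intro t hn ht x hx h1 h2
      rw [h.sup_zpowers (Or.inr h4) h1 h2]
      refine sup_le ?_ (zpowers_le.2 hx)
      by_cases e : n ≤ t + 1
      · rw [h.P_eq_bot e]; exact bot_le
      refine ih (t + 1) (by omega) (by omega) ⁅s, x⁆ ?_ (comm_mem ht s h1)
        fun e' => h2 (h.reg_of_unif h4 hs ht (by omega) x h1 e')
      rw [commutatorElement_def]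
      exact E.mul_mem (E.mul_mem (E.mul_mem hsE hx) (E.inv_mem hsE)) (E.inv_mem hx)
  exact key n t (by omega) ht x hx h1 h2

theorem mem_pred {i : ℕ} (hn : i + 1 ≤ n) (hi : 1 ≤ i) {g : S} (hg : g ∈ P S 1) (hc : ⁅s, g⁆ ∈ P S (i + 1)) :
    g ∈ P S i := by
  have key : ∀ t, t + 1 ≤ i → g ∈ P S (t + 1) := by
    intro t
    induction t with
    | zero => exact fun _ => hg
    | succ t ih =>
      intro ht
      exact h.reg_of_unif h4 hs (by omega) (by omega) g (ih (by omega)) (P_anti (by omega) hc)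
  obtain ⟨t, rfl⟩ := Nat.exists_eq_add_of_le' hi
  exact key t le_rfl

theorem exists_pow_mul (g : S) : ∃ a : ℕ, ∃ u ∈ P S 1, g = s ^ a * u := by
  have : g ∈ zpowers s ⊔ P S 1 := by
    rw [sup_comm, ← h.sup_zpowers (i := 0) (Or.inr h4) (mem_top s) hs.1]
    exact mem_top g
  obtain ⟨y, hy, u, hu, rfl⟩ := mem_sup_of_normal_right.1 this
  obtain ⟨a, rfl⟩ := mem_powers_iff_mem_zpowers.2 hy
  exact ⟨a, u, hu, rfl⟩

end mc

section lin
variable {S V : Type*} [Group S] {p : ℕ} [Fact p.Prime] [AddCommGroup V] [Module (ZMod p) V] {E : Subgroup S}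
  {ν : S → V} (hν : ∀ x ∈ E, ∀ y ∈ E, ν (x * y) = ν x + ν y)
include hν

omit [Fact p.Prime] [Module (ZMod p) V] in
theorem nu_one : ν 1 = 0 := by simpa using hν 1 E.one_mem 1 E.one_mem

omit [Fact p.Prime] [Module (ZMod p) V] in
theorem nu_inv {x : S} (hx : x ∈ E) : ν x⁻¹ = -ν x := by
  have := hν x hx x⁻¹ (E.inv_mem hx)
  rw [mul_inv_cancel, nu_one hν] at this
  exact (neg_eq_of_add_eq_zero_right this.symm).symm

variable (p) in
/-- the image of a subgroup -/
def im (K : Subgroup S) : Submodule (ZMod p) V :=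
  AddSubgroup.toZModSubmodule p
    { carrier := {v | ∃ x ∈ K, x ∈ E ∧ ν x = v}
      zero_mem' := ⟨1, K.one_mem, E.one_mem, nu_one hν⟩
      add_mem' := by
        rintro _ _ ⟨x, hx, hx', rfl⟩ ⟨y, hy, hy', rfl⟩
        exact ⟨x * y, K.mul_mem hx hy, E.mul_mem hx' hy', hν x hx' y hy'⟩
      neg_mem' := by
        rintro _ ⟨x, hx, hx', rfl⟩
        exact ⟨x⁻¹, K.inv_mem hx, E.inv_mem hx', nu_inv hν hx'⟩ }

theorem mem_im {K : Subgroup S} {v : V} : v ∈ im p hν K ↔ ∃ x ∈ K, x ∈ E ∧ ν x = v := Iff.rfl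

/-- the preimage of a submodule -/
def pre (U : Submodule (ZMod p) V) : Subgroup S where
  carrier := {x | x ∈ E ∧ ν x ∈ U}
  one_mem' := ⟨E.one_mem, by rw [nu_one hν]; exact U.zero_mem⟩
  mul_mem' := fun {x y} hx hy => ⟨E.mul_mem hx.1 hy.1, by rw [hν x hx.1 y hy.1]; exact U.add_mem hx.2 hy.2⟩
  inv_mem' := fun {x} hx => ⟨E.inv_mem hx.1, by rw [nu_inv hν hx.1]; exact U.neg_mem hx.2⟩

theorem im_le {K : Subgroup S} {U : Submodule (ZMod p) V} (h : K ≤ pre hν U) : im p hν K ≤ U := by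
  rintro _ ⟨x, hx, -, rfl⟩
  exact (h hx).2

end lin

theorem ctx_of {S G V : Type*} [Group S] [Finite S] [Group G] {p n : ℕ} [Fact p.Prime] [AddCommGroup V]
    [Module (ZMod p) V] [Module.Finite (ZMod p) V] (h : IsMC p n S) (h4 : 4 ≤ n) {i : ℕ} (hi : 2 ≤ i) (hin : i < n)
    {ν : S → V} (hν : ∀ x ∈ P S i, ∀ y ∈ P S i, ν (x * y) = ν x + ν y) (hsur : ∀ v, ∃ x ∈ P S i, ν x = v)
    (ρ : G →* Module.End (ZMod p) V) (inj : Function.Injective ρ) (κ : S →* G) (hκ : ∀ g, κ g = 1 ↔ g ∈ P S i)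
    (act : ∀ g, ∀ x ∈ P S i, ρ (κ g) (ν x) = ν (g * x * g⁻¹)) {H : Subgroup G} (syl : CL.Fus.SylIn p κ.range ⊤)
    (le_H : κ.range ≤ H) (ne_top : H ≠ ⊤)
    (se : ∀ g x, x ∈ H → x ≠ 1 → x ^ p = 1 → g * x * g⁻¹ ∈ H → g ∈ H) :
    ∃ (T1 : Subgroup G) (s z : G), Ctx p ρ κ.range T1 H s z := by
  obtain ⟨s, hs⟩ := h.exists_unif h4
  obtain ⟨i, rfl⟩ : ∃ j, i = j + 1 := ⟨i - 1, by omega⟩
  obtain ⟨z, hz, hz'⟩ := h.exists_mem_not_mem (i := i) (Or.inr h4) (by omega)
  have two : 2 ≤ p := (Fact.out : p.Prime).two_le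
  have le : ∀ j, P S (i + 1 + j) ≤ P S (i + 1) := fun j => P_anti (by omega)
  have cm : ∀ g, ∀ x ∈ P S (i + 1), (ρ (κ g) - 1) (ν x) = ν ⁅g, x⁆ := fun g x hx => by
    rw [LinearMap.sub_apply, act g x hx, commutatorElement_def,
      hν _ ((P_normal _).conj_mem x hx g) _ (inv_mem hx), nu_inv hν hx, sub_eq_add_neg]
    rfl
  have mk : ∀ j, ∀ x ∈ P S (i + 1 + j), ν x ∈ im p hν (P S (i + 1 + j)) := fun j x hx => ⟨x, hx, le j hx, rfl⟩
  have rg : ∀ j, range ((ρ (κ s) - 1) ^ j) = im p hν (P S (i + 1 + j)) := by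
    intro j
    induction j with
    | zero =>
      rw [pow_zero, Module.End.one_eq_id, range_id, eq_comm, eq_top_iff]
      intro v _
      obtain ⟨x, hx, rfl⟩ := hsur v
      exact mk 0 x hx
    | succ j ih =>
      rw [pow_succ', Module.End.mul_eq_comp, range_comp, ih]
      refine le_antisymm ?_ (im_le hν (P_succ_le_of_comm h h4 hs (a := i + 1 + j) (by omega) fun x hx => ?_))
      · rintro _ ⟨_, ⟨x, hx, hx', rfl⟩, rfl⟩
        rw [cm s x hx']
        exact mk (j + 1) _ (comm_mem (i := i + 1 + j) (by omega) s hx)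
      · exact ⟨le (j + 1) (comm_mem (i := i + 1 + j) (by omega) s hx), ν x, mk j x hx, cm s x (le j hx)⟩
  refine ⟨(P S 1).map κ, κ s, κ z, inj, syl, ⟨s, rfl⟩, map_le_range _ _, ?_, ?_, ?_,
    mem_map_of_mem κ (P_anti (by omega) hz), fun e => hz' ((hκ z).1 e), ?_, ?_, ?_, ?_, ?_, ?_, ?_, le_H, ne_top, se⟩
  · rintro _ ⟨g, rfl⟩ _ ⟨u, hu, rfl⟩
    exact ⟨g * u * g⁻¹, (P_normal 1).conj_mem u hu g, by simp⟩
  · rintro _ ⟨g, rfl⟩
    obtain ⟨a, u, hu, rfl⟩ := exists_pow_mul h h4 hs g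
    exact ⟨a, κ u, mem_map_of_mem κ hu, by simp⟩
  · rw [← map_pow, hκ]
    exact P_anti (by omega) (h.pow_mem_last h4 hs)
  · rw [← map_pow, hκ]
    by_cases e : i = 1
    · subst e
      exact h.pow_mem_P_two z
    · exact P_anti (by omega) (h.pow_mem_add (by omega) hz)
  · rw [← commutatorElement_eq_one_iff_commute, ← map_commutatorElement, hκ]
    exact comm_mem' (by omega) s hz
  · rintro _ ⟨g, hg, rfl⟩ hc
    rw [Commute.symm_iff, ← commutatorElement_eq_one_iff_commute, ← map_commutatorElement, hκ] at hc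
    have h1 := mem_pred h h4 hs (by omega) (by omega) hg hc
    rw [h.sup_zpowers (Or.inr h4) hz hz'] at h1
    refine (sup_le (fun x hx => ?_) (zpowers_le.2 (mem_zpowers (κ z))) :
      P S (i + 1) ⊔ zpowers z ≤ (zpowers (κ z)).comap κ) h1
    rw [mem_comap, (hκ x).2 hx]
    exact one_mem _
  · obtain ⟨c, hc, hc'⟩ := h.exists_mem_not_mem (i := i + 1) (Or.inr h4) hin
    have h1 := (ρ (κ s) - 1).finrank_range_add_finrank_ker
    have h2 : range (ρ (κ s) - 1) ⊔ (ZMod p) ∙ ν c = ⊤ := by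
      have e0 := rg 0
      have e1 := rg 1
      rw [pow_zero, Module.End.one_eq_id, range_id] at e0
      rw [pow_one] at e1
      rw [eq_top_iff, e0, e1]
      refine im_le hν ((h.sup_zpowers (Or.inr h4) hc hc').le.trans ?_)
      exact sup_le (fun x hx => ⟨le 1 hx, Submodule.mem_sup_left (mk 1 x hx)⟩)
        (zpowers_le.2 ⟨hc, Submodule.mem_sup_right (Submodule.mem_span_singleton_self _)⟩)
    have h3 := Submodule.finrank_add_le_finrank_add_finrank (range (ρ (κ s) - 1)) ((ZMod p) ∙ ν c)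
    have h5 : finrank (ZMod p) ((ZMod p) ∙ ν c) ≤ 1 := by
      simpa using finrank_span_le_card (R := ZMod p) ({ν c} : Set V)
    rw [h2, finrank_top] at h3
    omega
  · rintro _ ⟨g, rfl⟩ j v hv
    rw [rg] at hv ⊢
    obtain ⟨x, hx, hx', rfl⟩ := hv
    rw [cm g x hx']
    exact mk (j + 1) _ (comm_mem (i := i + 1 + j) (by omega) g hx)
  · rintro _ ⟨g, hg, rfl⟩ j hj v hv
    rw [rg] at hv ⊢
    obtain ⟨x, hx, hx', rfl⟩ := hv
    rw [cm g x hx']
    refine mk (j + 2) _ (h.commutator_P_one_le h4 (i + 1 + j) (by omega) ?_ (commutator_mem_commutator hg hx))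
    by_contra e
    apply hj
    rw [← range_eq_bot, rg, h.P_eq_bot (i := i + 1 + (j + 2)) (by omega), eq_bot_iff]
    exact im_le hν bot_le
  · intro v
    obtain ⟨x, hx, rfl⟩ := hsur v
    rw [rg, cm z x hx]
    refine mk 2 _ (mem_C.1 ?_ x hx)
    by_cases e : i = 1
    · subst e
      rwa [C_two]
    · exact P_two_le_C (by omega) (P_anti (by omega) hz)

/-- automorphisms of an elementary abelian group are linear -/
def toEnd (p : ℕ) [Fact p.Prime] (Q : Type*) [CommGroup Q] [Module (ZMod p) (Additive Q)] :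
    MulAut Q →* Module.End (ZMod p) (Additive Q) where
  toFun a := (MonoidHom.toAdditive a.toMonoidHom).toZModLinearMap p
  map_one' := rfl
  map_mul' _ _ := rfl

/-- the Frattini quotient as a module -/
theorem exists_lin {E : Type u} [Group E] [Finite E] {p : ℕ} [Fact p.Prime] (hE : IsPGroup p E) :
    ∃ (V : Type u) (_ : AddCommGroup V) (_ : Module (ZMod p) V) (_ : Module.Finite (ZMod p) V)
      (π : MulAut E →* Module.End (ZMod p) V) (ν : E → V), (∀ x y, ν (x * y) = ν x + ν y) ∧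
        Function.Surjective ν ∧ (∀ a x, π a (ν x) = ν (a x)) ∧ ∀ x, ν x = 0 ↔ x ∈ frattini E := by
  let _ : CommGroup (E ⧸ frattini E) :=
    { (inferInstance : Group (E ⧸ frattini E)) with
      mul_comm := fun a b => by
        obtain ⟨a, rfl⟩ := QuotientGroup.mk_surjective a
        obtain ⟨b, rfl⟩ := QuotientGroup.mk_surjective b
        rw [← QuotientGroup.mk_mul, ← QuotientGroup.mk_mul, QuotientGroup.eq]
        have := CL.PG.commutatorElement_mem_frattini hE b⁻¹ a⁻¹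
        rw [commutatorElement_def] at this
        simpa [mul_assoc] using this }
  let _ : Module (ZMod p) (Additive (E ⧸ frattini E)) := AddCommGroup.zmodModule fun x => by
    obtain ⟨a, ha⟩ := QuotientGroup.mk_surjective (Additive.toMul x)
    change Additive.ofMul (Additive.toMul x ^ p) = Additive.ofMul 1
    rw [← ha, ← QuotientGroup.mk_pow, (QuotientGroup.eq_one_iff _).2 (CL.PG.pow_mem_frattini hE a)]
  have hc : ∀ a : MulAut E, frattini E ≤ (frattini E).comap a.toMonoidHom :=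
    characteristic_iff_le_comap.1 inferInstance
  refine ⟨Additive (E ⧸ frattini E), inferInstance, inferInstance, Module.Finite.of_finite,
    (toEnd p _).comp (CL.QuadCent.quotHom (MonoidHom.id _) _ hc),
    fun x => Additive.ofMul (x : E ⧸ frattini E), fun _ _ => rfl,
    fun v => QuotientGroup.mk_surjective (s := frattini E) v, fun _ _ => ?_, fun x => QuotientGroup.eq_one_iff x⟩
  rfl

end Fu

end CL.MCN
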