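import Cfsg.Agent.FUS.MC.Defs
import Cfsg.Agent.FUS.MC.Fus1
import Cfsg.Agent.FGS.MaxCl3
import Cfsg.Agent.FUS.EssExt
import Cfsg.Agent.FUS.TransvSPE

/-! # Essential subgroups of `p`-groups of maximal class: the linear situation, and pearls -/

set_option autoImplicit false

namespace CL.MCN

open Subgroup Cfsg CL.MaxCl CL.Fus CL.EssSm
open scoped commutatorElement

universe u
variable {Ω : Type u} [Group Ω] {S : Subgroup Ω} [Finite S] {p n : ℕ} [Fact p.Prime] {F : FusionSystem S}

namespace Fu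

theorem last_mem (h : IsMC p n S) {E : Subgroup Ω} (hE : F.IsCentric E) {x : S} (hx : x ∈ P S (n - 1)) :
    (x : Ω) ∈ E :=
  centralizerIn_le_of_isCentric hE ⟨x.2, mem_centralizer_iff.2 fun y hy =>
    congrArg Subtype.val (mem_center_iff.1 (h.P_le_center hx) ⟨y, hE.1 hy⟩)⟩

/-- the quotient by `I` of a relatively strongly `p`-embedded situation -/
theorem quot_spe {Γ G : Type*} [Group Γ] [Group G] {I T A H : Subgroup Γ} [Finite A] (h : RelSPE I T A H)
    (hT : SylIn p T A) (hI : A ≤ normalizer (I : Set Γ)) (π : A →* G) (hπ : Function.Surjective π)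
    (hker : ∀ a, π a = 1 ↔ (a : Γ) ∈ I) :
    SylIn p ((T.subgroupOf A).map π) ⊤ ∧ (T.subgroupOf A).map π ≤ (H.subgroupOf A).map π ∧
      (H.subgroupOf A).map π ≠ ⊤ ∧ ∀ g x, x ∈ (H.subgroupOf A).map π → x ≠ 1 → x ^ p = 1 →
        g * x * g⁻¹ ∈ (H.subgroupOf A).map π → g ∈ (H.subgroupOf A).map π := by
  have hTH := h.le hT.le
  have mem : ∀ a : A, π a ∈ (H.subgroupOf A).map π ↔ (a : Γ) ∈ H := fun a => by
    refine ⟨?_, fun ha => ⟨a, ha, rfl⟩⟩
    rintro ⟨b, hb, e⟩
    have : ((b⁻¹ * a : A) : Γ) ∈ H := hTH (h.1.le ((hker _).1 (by rw [map_mul, map_inv, e, inv_mul_cancel])))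
    simpa using H.mul_mem (mem_subgroupOf.1 hb) this
  refine ⟨?_, map_mono (comap_mono hTH), fun e => ?_, ?_⟩
  · obtain ⟨-, R, hR⟩ := sylIn_iff_exists_sylow.1 hT
    have := (sylIn_top R).map π
    rwa [hR, map_top_of_surjective π hπ] at this
  · obtain ⟨a, ha, haH⟩ := SetLike.exists_of_lt h.2.1
    exact haH ((mem ⟨a, ha⟩).1 (e ▸ mem_top _))
  · intro g x hx x1 xp hg
    obtain ⟨g, rfl⟩ := hπ g
    obtain ⟨x, rfl⟩ := hπ x
    rw [← map_inv, ← map_mul, ← map_mul, mem] at hg
    rw [mem] at hx ⊢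
    rw [← map_pow, hker] at xp
    have : Finite H := finite_of_le h.2.1.le
    have hp : IsPGroup p (zpowers (x : Γ)) := by
      obtain ⟨k, hk⟩ := hT.isPGroup ⟨_, h.1.le xp⟩
      have e : (x : Γ) ^ p ^ (k + 1) = 1 := by
        rw [pow_succ', pow_mul]
        simpa using congrArg Subtype.val hk
      rintro ⟨_, m, rfl⟩
      refine ⟨k + 1, Subtype.ext ?_⟩
      change ((x : Γ) ^ m) ^ p ^ (k + 1) = 1
      rw [← zpow_natCast, ← zpow_mul, mul_comm, zpow_mul, zpow_natCast, e, one_zpow]
    obtain ⟨b, hb, hbx⟩ := (hT.of_le hTH h.2.1.le).exists_conj_le (zpowers_le.2 hx) hp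
    have h1 := h.mem_of_conj_mem' hT hI (hbx _ (mem_zpowers _))
      (fun e => x1 ((hker x).2 ((mem_normalizer_iff.1 (hI (h.2.1.le hb)) _).2 e)))
      (A.mul_mem g.2 (A.inv_mem (h.2.1.le hb))) (by simpa [mul_assoc] using hg)
    simpa using H.mul_mem h1 hb

end Fu

open Fu in
/-- The action of `Out_F(E)` on the Frattini quotient of `E = γ_i`. -/
theorem exists_ctx (h : IsMC p n S) (h4 : 4 ≤ n) (hF : F.IsSaturated p) {i : ℕ} (hi : 2 ≤ i)
    (hE : F.IsEssential p ((P S i).map S.subtype)) :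
    ∃ (G : Type u) (_ : Group G) (_ : Finite G) (V : Type u) (_ : AddCommGroup V) (_ : Module (ZMod p) V)
      (_ : Module.Finite (ZMod p) V) (ρ : G →* Module.End (ZMod p) V) (T T1 H : Subgroup G) (s z : G),
      Ctx p ρ T T1 H s z := by
  classical
  have hS := h.isPGroup
  set E := (P S i).map S.subtype with hEdef
  have mE : ∀ x : S, (x : Ω) ∈ E ↔ x ∈ P S i := fun x => mem_map_iff_mem S.subtype_injective
  have hES : E ≤ S := hE.1.1
  have : Finite E := finite_of_le hES
  have hin : i < n := by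
    by_contra e
    refine h.ne_bot (eq_bot_iff.2 fun x hx => ?_)
    rw [← h.P_eq_bot (not_lt.1 e), ← mE]
    exact last_mem h hE.1 hx
  have hn : ∀ g : S, (g : Ω) ∈ normalizer (E : Set Ω) := fun g => by
    have := le_normalizer_map (H := P S i) S.subtype
    rw [normalizer_eq_top] at this
    exact this ⟨g, mem_top g, rfl⟩
  obtain ⟨H₀, hH⟩ := exists_relSPE_of_essential hS hF hE
  have hT := sylIn_of_fullyNormalized hS hF hE.2.1
  obtain ⟨u, hu⟩ := exists_rad_of_essential hS hF hE
  obtain ⟨V, _, _, _, π, ν, hν, hsur, hact, h0⟩ := exists_lin hu.pg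
  set A := F.autGroup E with hA
  have n1 : ν 1 = 0 := by simpa using hν 1 1
  have hker : ∀ a : A, π a = 1 ↔ (a : MulAut E) ∈ Inn E := fun a => by
    constructor
    · intro e
      refine hu.mem_inn (A := ⊤) (B := ⊤) le_top le_rfl (fun _ _ _ => mem_top _) (fun _ _ _ => mem_top _) a.2
        (fun y _ => ?_) (fun _ _ => mem_top _) fun _ => mem_top _
      rw [← h0, hν, ← hact, e, Module.End.one_apply, ← hν, inv_mul_cancel, n1]
    · rintro ⟨g, hg⟩
      ext v
      obtain ⟨x, rfl⟩ := hsur v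
      rw [hact, ← hg, MulAut.conj_apply, hν, hν, add_right_comm, ← hν, mul_inv_cancel, n1, zero_add,
        Module.End.one_apply]
  let N := (π.comp A.subtype).ker
  let κ₀ : S →* A := MonoidHom.mk' (fun g => ⟨cjAut E g (hn g), cjAut_mem_autGroup F hES g.2 (hn g)⟩)
    fun a b => Subtype.ext (cjAut_mul (hn a) (hn b))
  have hN : ∀ a : A, QuotientGroup.mk' N a = 1 ↔ (a : MulAut E) ∈ Inn E := fun a =>
    (QuotientGroup.eq_one_iff a).trans (hker a)
  obtain ⟨q1, q2, q3, q4⟩ := quot_spe hH hT (autGroup_le_normalizer_inn F E) (QuotientGroup.mk' N)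
    (QuotientGroup.mk'_surjective N) hN
  have hr : ((QuotientGroup.mk' N).comp κ₀).range =
      ((autInducedBy S E).subgroupOf A).map (QuotientGroup.mk' N) := by
    rw [MonoidHom.range_comp]
    congr 1
    ext a
    rw [mem_subgroupOf, mem_autInducedBy_iff_cjAut]
    constructor
    · rintro ⟨g, rfl⟩
      exact ⟨g, g.2, hn g, rfl⟩
    · rintro ⟨g, hg, hg', e⟩
      exact ⟨⟨g, hg⟩, Subtype.ext e⟩
  rw [← hr] at q1 q2
  obtain ⟨T1, s, z, hc⟩ := ctx_of h h4 hi hin (ν := fun x : S => if h : (x : Ω) ∈ E then ν ⟨x, h⟩ else 0)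
    (fun x hx y hy => by
      rw [dif_pos ((mE _).2 (mul_mem hx hy)), dif_pos ((mE _).2 hx), dif_pos ((mE _).2 hy), ← hν]
      rfl)
    (fun v => by
      obtain ⟨x, rfl⟩ := hsur v
      exact ⟨⟨x, hES x.2⟩, (mE _).1 x.2, dif_pos x.2⟩)
    (QuotientGroup.lift N (π.comp A.subtype) le_rfl)
    ((injective_iff_map_eq_one _).2 fun a ha => by
      obtain ⟨a, rfl⟩ := QuotientGroup.mk_surjective a
      exact (QuotientGroup.eq_one_iff a).2 ha)
    ((QuotientGroup.mk' N).comp κ₀)
    (fun g => ((hN _).trans (cjAut_mem_inn_iff hES (centralizerIn_le_of_isCentric hE.1) g.2 (hn g))).trans (mE g))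
    (fun g x hx => by
      rw [dif_pos ((mE _).2 hx), dif_pos ((mE _).2 ((P_normal i).conj_mem x hx g))]
      exact hact (cjAut E g (hn g)) _)
    q1 q2 q3 q4
  exact ⟨A ⧸ N, inferInstance, inferInstance, V, _, _, inferInstance, _, _, T1, _, s, z, hc⟩

open Fu in
/-- An essential subgroup containing a uniform element is a pearl. -/
theorem pearl_of_unif (h : IsMC p n S) (h4 : 4 ≤ n) (hF : F.IsSaturated p) {E : Subgroup Ω} (hE : F.IsEssential p E)
    {s : S} (hs : Unif n s) (hsE : (s : Ω) ∈ E) :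
    (Nat.card E = p ^ 2 ∧ IsElementaryAbelian p E) ∨ (Nat.card E = p ^ 3 ∧ IsExtraspecial p E ∧
      (p ≠ 2 → Monoid.exponent E = p) ∧ (p = 2 → Nonempty (E ≃* QuaternionGroup 2))) := by
  classical
  have hp : p.Prime := Fact.out
  have hS := h.isPGroup
  have hES : E ≤ S := hE.1.1
  have : Finite E := finite_of_le hES
  obtain ⟨u, hu⟩ := exists_rad_of_essential hS hF hE
  have hex : ∃ j, P S (j + 1) ≤ E.subgroupOf S :=
    ⟨n - 2, fun x hx => last_mem h hE.1 (by rwa [show n - 1 = n - 2 + 1 by omega])⟩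
  set j := Nat.find hex + 1 with hj
  have hjE : P S j ≤ E.subgroupOf S := Nat.find_spec hex
  have hjn : j + 1 ≤ n := by
    have : Nat.find hex ≤ n - 2 :=
      Nat.find_min' hex fun x hx => last_mem h hE.1 (by rwa [show n - 1 = n - 2 + 1 by omega])
    omega
  have hinf : ∀ x ∈ E.subgroupOf S, x ∈ P S 1 → x ∈ P S j := fun x hx h1 => by
    have key : ∀ t, t + 1 ≤ j → x ∈ P S (t + 1) := by
      intro t
      induction t with
      | zero => exact fun _ => h1
      | succ t ih =>
        intro ht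
        by_contra e
        exact Nat.find_min hex (show t < Nat.find hex by omega)
          (P_le_of_mem h h4 hs hsE (by omega) hx (ih (by omega)) e)
    exact key _ le_rfl
  have hsup : E.subgroupOf S ≤ P S j ⊔ zpowers s := fun y hy => by
    obtain ⟨a, v, hv, rfl⟩ := exists_pow_mul h h4 hs y
    exact mul_mem (mem_sup_right (npow_mem_zpowers s a)) (mem_sup_left (hinf v
      ((mul_mem_cancel_left (pow_mem (show s ∈ E.subgroupOf S from hsE) a)).1 hy) hv))
  have top : P S 1 ⊔ zpowers s = ⊤ := (h.sup_zpowers (i := 0) (Or.inr h4) (mem_top s) hs.1).symm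
  have hj2 : 2 ≤ j := by
    by_contra e
    have e1 : j = 1 := by omega
    rw [e1] at hjE
    refine (lt_of_essential hS hF hE).not_ge fun x hx => ?_
    exact (sup_le hjE (zpowers_le.2 hsE) : P S 1 ⊔ zpowers s ≤ E.subgroupOf S) (top ▸ mem_top (⟨x, hx⟩ : S))
  set ι : E →* S := inclusion hES with hι
  have ιinj : Function.Injective ι := inclusion_injective hES
  have hmap : ∀ a, j ≤ a → ((P S a).comap ι).map ι = P S a := fun a ha =>
    map_comap_eq_self (by rw [hι, inclusion_range]; exact (P_anti ha).trans hjE)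
  have cK : ∀ a b, j ≤ a → a + b = n → Nat.card ((P S a).comap ι) = p ^ b := fun a b ha hb => by
    rw [← card_map_of_injective ιinj, hmap a ha, h.card_P (by omega) hb]
  have iB : ((P S j).comap ι).index = p := by
    have e : (P S j).comap ι = (P S 1).comap ι :=
      le_antisymm (comap_mono (P_anti (by omega))) fun x hx => hinf _ x.2 hx
    have e' : P S 1 ⊔ E.subgroupOf S = ⊤ :=
      eq_top_iff.2 (top.ge.trans (sup_le_sup_left (zpowers_le.2 (mem_subgroupOf.2 hsE)) _))
    rw [e, index_comap, hι, inclusion_range, ← relIndex_sup_left, e', relIndex_top_right,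
      h.index_P' h4 (by omega), pow_one]
  have cE : ∀ b, j + b = n → Nat.card E = p ^ (b + 1) := fun b hb => by
    rw [← ((P S j).comap ι).card_mul_index, cK j b le_rfl hb, iB, pow_succ]
  by_cases e1 : j + 1 = n
  · left
    have c2 := cE 1 e1
    have i2 := hu.index_eq₀ (c2 ▸ (frattini E).index_dvd_card)
    have c3 := (frattini E).card_mul_index
    rw [i2, c2, Nat.mul_eq_right (pow_ne_zero _ hp.ne_zero), card_eq_one] at c3
    obtain ⟨a1, a2⟩ := (CL.PG.frattini_eq_bot_iff hu.pg).1 c3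
    exact ⟨c2, a1, fun a ha => congrArg Subtype.val (a2 ⟨a, ha⟩)⟩
  by_cases e2 : j + 2 = n
  · right
    have c3 := cE 2 e2
    have na : ¬ IsMulCommutative E := fun hc => hs.2 (mem_C.2 fun a ha => by
      have ha' : a ∈ P S j := by rwa [show j = n - 2 by omega]
      have : s * a = a * s := congrArg ι (hc.is_comm.comm ⟨s, hsE⟩ ⟨a, hjE ha'⟩)
      rw [commutatorElement_eq_one_iff_mul_comm.2 this]
      exact one_mem _)
    refine ⟨c3, isExtraspecial_of_card c3 na, fun h2 => ?_, fun h2 => ?_⟩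
    · rcases hu.card_cube c3 with hh | hh | hh
      · exact (na hh.1).elim
      · refine ((Nat.dvd_prime hp).1 (Monoid.exponent_dvd_of_forall_pow_eq_one hh.2.2)).resolve_left fun e => ?_
        rw [Monoid.exp_eq_one_iff] at e
        exact na ⟨⟨fun _ _ => Subsingleton.elim _ _⟩⟩
      · exact (h2 hh.1).elim
    · rcases hu.card_cube c3 with hh | hh | hh
      · exact (na hh.1).elim
      · exact (hh.1 h2).elim
      · exact hh.2
  exfalso
  have hK : ∀ a, j ≤ a → ⁅(⊤ : Subgroup E), (P S a).comap ι⁆ = (P S (a + 1)).comap ι := fun a ha => by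
    refine le_antisymm (commutator_le.2 fun x _ y hy => ?_) ?_
    · rw [mem_comap, map_commutatorElement]
      exact comm_mem (by omega) _ hy
    · rw [← comap_map_eq_self_of_injective ιinj ⁅(⊤ : Subgroup E), (P S a).comap ι⁆]
      refine comap_mono (P_succ_le_of_comm h h4 hs (by omega) fun x hx => ?_)
      exact ⟨⁅⟨s, hsE⟩, ⟨x, hjE (P_anti ha hx)⟩⁆, commutator_mem_commutator (mem_top _) hx,
        map_commutatorElement _ _ _⟩
  have hK1 : _root_.commutator E = (P S (j + 1)).comap ι := by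
    refine le_antisymm (commutator_le.2 fun x _ y _ => ?_) ((hK j le_rfl).ge.trans (commutator_mono le_rfl le_top))
    rw [mem_comap, map_commutatorElement]
    exact lcs_sup_zpowers_le (by omega) s 0 (commutator_mem_commutator (hsup x.2) (hsup y.2))
  have c1 : ((P S (j + 1)).comap ι).Characteristic := hK1 ▸ inferInstance
  have c2 : ((P S (j + 2)).comap ι).Characteristic := hK (j + 1) (by omega) ▸ inferInstance
  have c3 : ((P S (j + 3)).comap ι).Characteristic := hK (j + 2) (by omega) ▸ inferInstance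
  have coat := CL.PG.isCoatom_of_index_eq_prime hp iB
  have hB : cs ((P S (j + 1)).comap ι) ((P S (j + 3)).comap ι) = (P S j).comap ι := by
    refine (coat.le_iff.1 fun x hx => mem_cs.2 fun a ha => ?_).resolve_left fun e => ?_
    · rw [mem_comap, map_commutatorElement]
      exact comm_mem_add (i := j) (j := j + 1) (by omega) hx ha
    · refine h.not_mem_C h4 hs (j := j + 1) (by omega) (by omega) (mem_C.2 fun a ha => ?_)
      have := mem_cs.1 (e ▸ mem_top (⟨s, hsE⟩ : E)) ⟨a, hjE (P_succ_le j ha)⟩ ha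
      rwa [mem_comap, map_commutatorElement] at this
  refine hu.not_flag (A := frattini E) (B := (P S j).comap ι) le_rfl (frattini_le_coatom coat) (inv_of_char _ _)
    (fun g x hx => ?_) (by rw [relIndex_self]; exact one_dvd _) ?_ iB.dvd
  · rw [← hB] at hx ⊢
    refine mem_cs.2 fun a ha => ?_
    have := inv_of_char _ ((P S (j + 3)).comap ι) g _
      (mem_cs.1 hx _ (inv_of_char _ ((P S (j + 1)).comap ι) g⁻¹ a ha))
    simpa [map_commutatorElement] using this
  · refine (relIndex_dvd_of_le_left _ (hK1 ▸ CL.PG.commutator_le_frattini hu.pg)).trans (dvd_of_eq ?_)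
    have e3 := relIndex_mul_relIndex ⊥ _ _ bot_le (comap_mono (f := ι) (P_succ_le (G := S) j))
    obtain ⟨b, hb⟩ : ∃ b, j + 1 + b = n := ⟨n - (j + 1), by omega⟩
    rw [relIndex_bot_left, relIndex_bot_left, cK (j + 1) b (by omega) hb, cK j (b + 1) le_rfl (by omega),
      pow_succ] at e3
    exact Nat.eq_of_mul_eq_mul_left (pow_pos hp.pos b) e3

end CL.MCN
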