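import Cfsg.Agent.FUS.MC.Core

/-! # Deformations of the restriction to a strongly `p`-embedded subgroup are trivial -/

set_option autoImplicit false

namespace CL.MCN

open Polynomial

namespace In

section blocks
variable {C n S : Type*} [Fintype C] [Fintype n] [CommRing S]

/-- block row -/
def row (Q : C → Matrix n n S) : Matrix n (C × n) S := Matrix.of fun i b => Q b.1 i b.2

/-- block column -/
def col (D : C → Matrix n n S) : Matrix (C × n) n S := Matrix.of fun a j => D a.1 a.2 j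

theorem blk_col (B : Matrix C C (Matrix n n S)) (D : C → Matrix n n S) :
    Matrix.comp C C n n S B * col D = col fun c => ∑ c', B c c' * D c' := by
  ext a j
  simp [col, Matrix.mul_apply, Fintype.sum_prod_type, Matrix.sum_apply]

omit [Fintype C] in
theorem col_mul (D : C → Matrix n n S) (M : Matrix n n S) : col D * M = col fun c => D c * M := by
  ext a j
  simp [col, Matrix.mul_apply]

omit [Fintype C] in
theorem col_row (D Q : C → Matrix n n S) :
    col D * row Q = Matrix.comp C C n n S (Matrix.of fun c c' => D c * Q c') := by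
  ext a b
  simp [col, row, Matrix.mul_apply]

theorem row_blk (Q : C → Matrix n n S) (B : Matrix C C (Matrix n n S)) :
    row Q * Matrix.comp C C n n S B = row fun c' => ∑ c, Q c * B c c' := by
  ext i b
  simp [row, Matrix.mul_apply, Fintype.sum_prod_type, Matrix.sum_apply]

theorem row_col (Q D : C → Matrix n n S) : row Q * col D = ∑ c, Q c * D c := by
  ext i j
  simp [row, col, Matrix.mul_apply, Fintype.sum_prod_type, Matrix.sum_apply]

omit [Fintype C] in
theorem mul_row (M : Matrix n n S) (Q : C → Matrix n n S) : M * row Q = row fun c => M * Q c := by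
  ext i b
  simp [row, Matrix.mul_apply]

end blocks

/-- `core` for block matrices and a group -/
theorem core' {p : ℕ} [Fact p.Prime] {G C n : Type*} [Group G] [Finite G] [Fintype C] [DecidableEq C] [Fintype n]
    [DecidableEq n] (ρ : G →* Matrix n n (ZMod p))
    (hρ : Function.Surjective (MonoidAlgebra.lift (ZMod p) (Matrix n n (ZMod p)) G ρ))
    (Γ : G →* Matrix C C (Matrix n n (ZMod p)[X])) (N : Matrix C C (Matrix n n (ZMod p)[X]))
    (hN : ∀ g, Commute (Γ g) N) (δ ε : C → Matrix n n (ZMod p))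
    (hδ : ∀ g c, ∑ c', (Γ g c c').map (eval 0) * δ c' = δ c * ρ g)
    (h0 : ∀ c c', (N c c').map (eval 0) = (if c = c' then 1 else 0) - δ c * ε c') (c₀ : C)
    (htr : ∀ Φ : Matrix C C (Matrix n n (ZMod p)[X]), (∀ g, Commute (Γ g) Φ) → (N * Φ) c₀ c₀ = 0)
    {x : MonoidAlgebra (ZMod p) G} (hx : MonoidAlgebra.lift (ZMod p) (Matrix n n (ZMod p)) G ρ x = 0)
    {Y : Matrix n n (ZMod p)[X]}
    (hY : ∀ c, MonoidAlgebra.lift (ZMod p) (Matrix C C (Matrix n n (ZMod p)[X])) G Γ x c₀ c =
      if c = c₀ then Y else 0) : Y = 0 := by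
  have : Finite (MonoidAlgebra (ZMod p) G) := Module.finite_of_finite (ZMod p)
  set e := Matrix.compAlgEquiv C n (ZMod p)[X] (ZMod p) with he
  set Γ' := MonoidAlgebra.lift (ZMod p) (Matrix C C (Matrix n n (ZMod p)[X])) G Γ with hΓ'
  have ee : ∀ B, e B = Matrix.comp C C n n (ZMod p)[X] B := fun _ => rfl
  have emap : ∀ B : Matrix C C (Matrix n n (ZMod p)[X]), (e B).map (eval 0) =
      Matrix.comp C C n n (ZMod p) (Matrix.of fun c c' => (B c c').map (eval 0)) := fun B => by
    ext a b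
    simp [ee]
  have hcomm : ∀ Φ : Matrix C C (Matrix n n (ZMod p)[X]), (∀ g, Commute (Γ g) Φ) → ∀ x, Commute (Γ' x) Φ := by
    intro Φ hΦ x
    induction x using MonoidAlgebra.induction_on with
    | of g => rw [hΓ', MonoidAlgebra.lift_of]; exact hΦ g
    | add x y hx hy => rw [map_add]; exact hx.add_left hy
    | smul r x hx => rw [map_smul]; exact hx.smul_left r
  refine core (ι := C × n) _ hρ (e.toAlgHom.comp Γ') (e N) (fun x => (hcomm N hN x).map e) (col δ) (row ε)
    (fun x => ?_) ?_ (row (Pi.single c₀ 1)) (col (Pi.single c₀ 1)) ?_ (fun Φ hΦ => ?_) hx ?_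
  · induction x using MonoidAlgebra.induction_on with
    | of g =>
      rw [show (e.toAlgHom.comp Γ') (MonoidAlgebra.of _ _ g) = e (Γ' (MonoidAlgebra.of _ _ g)) from rfl,
        hΓ', MonoidAlgebra.lift_of, MonoidAlgebra.lift_of, emap, blk_col, col_mul]
      congr 1
      funext c
      exact hδ g c
    | add x y hx hy =>
      rw [map_add, map_add, Matrix.map_add _ (fun a b => eval_add), Matrix.add_mul, hx, hy, Matrix.mul_add]
    | smul r x hx =>
      rw [map_smul, map_smul, Matrix.mul_smul, ← hx, ← Matrix.smul_mul]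
      congr 1
      ext a b
      simp
  · rw [emap, col_row]
    ext a b
    simp only [Matrix.comp_apply, Matrix.of_apply, h0, Matrix.sub_apply, Matrix.one_apply, Prod.ext_iff]
    by_cases h : a.1 = b.1 <;> simp [h, Matrix.one_apply]
  · rw [row_col, Finset.sum_eq_single c₀ (fun c _ h => by simp [Pi.single_eq_of_ne h]) (by simp)]
    simp
  · obtain ⟨Φ, rfl⟩ := e.surjective Φ
    have h1 : ∀ g, Commute (Γ g) Φ := fun g => by
      have := hΦ (MonoidAlgebra.of (ZMod p) G g)
      change Commute (e (Γ' _)) _ at this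
      rw [hΓ', MonoidAlgebra.lift_of] at this
      exact this.of_map e.injective
    rw [← map_mul, ee, row_blk, row_col,
      Finset.sum_eq_single c₀ (fun c _ h => by simp [Pi.single_eq_of_ne h]) (by simp),
      Finset.sum_eq_single c₀ (fun c _ h => by simp [Pi.single_eq_of_ne h]) (by simp), htr Φ h1]
    simp
  · rw [show (e.toAlgHom.comp Γ') x = Matrix.comp C C n n (ZMod p)[X] (Γ' x) from rfl, row_blk, mul_row]
    congr 1
    funext c
    rw [Finset.sum_eq_single c₀ (fun c _ h => by simp [Pi.single_eq_of_ne h]) (by simp), hY]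
    by_cases h : c = c₀
    · simp [h]
    · simp [h]

theorem exists_weight {G Z k : Type*} [Group G] [Fintype G] [MulAction G Z] [Field k] (S : Z → Prop)
    [DecidablePred S] (hS : ∀ x, S x → (Nat.card (MulAction.stabilizer G x) : k) ≠ 0)
    (hinv : ∀ (g : G) x, S (g • x) ↔ S x) :
    ∃ w : Z → k, ∀ x, ∑ g : G, w (g⁻¹ • x) = if S x then -1 else 0 := by
  classical
  let rep : Z → Z := fun x => (Quotient.mk (MulAction.orbitRel G Z) x).out
  have r1 : ∀ (g : G) x, rep (g • x) = rep x := fun g x =>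
    congrArg Quotient.out (Quotient.sound (MulAction.orbitRel_apply.2 ⟨g, rfl⟩))
  have r2 : ∀ x, ∃ g : G, g • x = rep x := fun x =>
    MulAction.orbitRel_apply.1 (Quotient.exact (Quotient.out_eq (Quotient.mk (MulAction.orbitRel G Z) x)))
  refine ⟨fun x => if S x ∧ x = rep x then -(Nat.card (MulAction.stabilizer G x) : k)⁻¹ else 0, fun x => ?_⟩
  by_cases hx : S x
  swap
  · simp [hinv, hx]
  obtain ⟨g₀, hg₀⟩ := r2 x
  have hx₀ : S (rep x) := hg₀ ▸ (hinv g₀ x).2 hx
  have e1 : ∀ g : G, (if S (g⁻¹ • x) ∧ g⁻¹ • x = rep (g⁻¹ • x) then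
      -(Nat.card (MulAction.stabilizer G (g⁻¹ • x)) : k)⁻¹ else 0) =
      if (g⁻¹ * g₀⁻¹) • rep x = rep x then -(Nat.card (MulAction.stabilizer G (rep x)) : k)⁻¹ else 0 := by
    intro g
    have e2 : (g⁻¹ * g₀⁻¹) • rep x = g⁻¹ • x := by rw [← hg₀, mul_smul, inv_smul_smul]
    rw [e2, r1]
    by_cases h : g⁻¹ • x = rep x
    · rw [if_pos ⟨(hinv _ _).2 hx, h⟩, if_pos h, h]
    · rw [if_neg fun h' => h h'.2, if_neg h]
  rw [if_pos hx, Finset.sum_congr rfl fun g _ => e1 g]
  refine (Equiv.sum_comp ((Equiv.inv G).trans (Equiv.mulRight g₀⁻¹)) fun g : G =>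
    if g • rep x = rep x then -(Nat.card (MulAction.stabilizer G (rep x)) : k)⁻¹ else 0).trans ?_
  rw [← Finset.sum_filter, Finset.sum_const, nsmul_eq_mul]
  have e3 : (Finset.univ.filter fun g : G => g • rep x = rep x).card =
      Nat.card (MulAction.stabilizer G (rep x)) := by
    rw [← Fintype.card_subtype, Nat.card_eq_fintype_card]
    rfl
  rw [e3, mul_neg, mul_inv_cancel₀ (hS _ hx₀)]

theorem sum_eq_zero {G A M : Type*} [Group G] [Fintype G] [Group A] [Fintype A] [AddCommMonoid M]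
    (ψ : A →* G) (hψ : Function.Injective ψ) (F : G → M) (h : ∀ y, ∑ a : A, F (ψ a * y) = 0) :
    ∑ g : G, F g = 0 := by
  classical
  have := Fintype.ofFinite (G ⧸ ψ.range)
  have hb : Function.Bijective fun z : (G ⧸ ψ.range) × A => ψ z.2 * (z.1.out)⁻¹ := by
    constructor
    · rintro ⟨q, a⟩ ⟨q', a'⟩ e
      simp only at e
      have e1 : q = q' := by
        rw [← q.out_eq', ← q'.out_eq', QuotientGroup.eq]
        refine ⟨a⁻¹ * a', ?_⟩
        rw [map_mul, map_inv, eq_mul_inv_iff_mul_eq.1 e.symm |>.symm]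
        group
      subst e1
      rw [hψ (mul_right_cancel e)]
    · intro g
      obtain ⟨⟨_, a, rfl⟩, ha⟩ := QuotientGroup.mk_out_eq_mul ψ.range g⁻¹
      exact ⟨(((g⁻¹ : G) : G ⧸ ψ.range), a), by simp only [ha]; group⟩
  rw [← hb.sum_comp, Fintype.sum_prod_type]
  exact Finset.sum_eq_zero fun q _ => h q.out⁻¹

section ind
variable {G M : Type*} [Group G] [Ring M] {H : Subgroup G}

open Classical in
/-- extension by zero -/
noncomputable def ext0 (σ : H →* M) (g : G) : M := if h : g ∈ H then σ ⟨g, h⟩ else 0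

theorem ext0_mem (σ : H →* M) {g : G} (h : g ∈ H) : ext0 σ g = σ ⟨g, h⟩ := dif_pos h

theorem ext0_not (σ : H →* M) {g : G} (h : g ∉ H) : ext0 σ g = 0 := dif_neg h

theorem ext0_mul (σ : H →* M) {a : G} (h : a ∈ H) (b : G) : ext0 σ a * ext0 σ b = ext0 σ (a * b) := by
  by_cases hb : b ∈ H
  · rw [ext0_mem σ h, ext0_mem σ hb, ext0_mem σ (H.mul_mem h hb), ← map_mul]
    rfl
  · rw [ext0_not σ hb, mul_zero, ext0_not σ fun e => hb ((H.mul_mem_cancel_left h).1 e)]

variable {r : G ⧸ H → G} (hr : ∀ c, (r c : G ⧸ H) = c)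
include hr

theorem mem_iff (g : G) (c c' : G ⧸ H) : (r c)⁻¹ * g * r c' ∈ H ↔ c = g • c' := by
  rw [mul_assoc, ← QuotientGroup.eq, hr]
  conv_rhs => rw [← hr c']
  rfl

variable [Fintype (G ⧸ H)] [DecidableEq (G ⧸ H)]

/-- the induced representation -/
noncomputable def ind (σ : H →* M) : G →* Matrix (G ⧸ H) (G ⧸ H) M where
  toFun g := Matrix.of fun c c' => ext0 σ ((r c)⁻¹ * g * r c')
  map_one' := by
    ext c c'
    rw [Matrix.of_apply, Matrix.one_apply]
    split_ifs with h
    · rw [h, mul_one, inv_mul_cancel, ext0_mem σ H.one_mem]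
      exact map_one σ
    · exact ext0_not σ fun e => h (by simpa using (mem_iff hr 1 c c').1 e)
  map_mul' g g' := by
    ext c c'
    rw [Matrix.mul_apply, Finset.sum_eq_single (g⁻¹ • c)]
    · simp only [Matrix.of_apply]
      rw [ext0_mul σ ((mem_iff hr _ _ _).2 (smul_inv_smul g c).symm)]
      congr 1
      group
    · intro d _ hd
      rw [Matrix.of_apply, ext0_not σ fun e => hd (by rw [(mem_iff hr _ _ _).1 e, inv_smul_smul]), zero_mul]
    · simp

theorem ind_apply (σ : H →* M) (g : G) (c c' : G ⧸ H) : ind hr σ g c c' = ext0 σ ((r c)⁻¹ * g * r c') := rfl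

theorem ind_conj (σ : H →* M) (g : G) (B : Matrix (G ⧸ H) (G ⧸ H) M) (c c' : G ⧸ H) :
    (ind hr σ g * B * ind hr σ g⁻¹) c c' = ext0 σ ((r c)⁻¹ * g * r (g⁻¹ • c)) * B (g⁻¹ • c) (g⁻¹ • c') *
      ext0 σ ((r (g⁻¹ • c'))⁻¹ * g⁻¹ * r c') := by
  rw [Matrix.mul_apply, Finset.sum_eq_single (g⁻¹ • c'), Matrix.mul_apply, Finset.sum_eq_single (g⁻¹ • c)]
  · rfl
  · intro d _ hd
    rw [ind_apply, ext0_not σ fun e => hd (by rw [(mem_iff hr _ _ _).1 e, inv_smul_smul]), zero_mul]
  · simp
  · intro d _ hd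
    rw [ind_apply, ext0_not σ fun e => hd ((mem_iff hr _ _ _).1 e), mul_zero]
  · simp

end ind

end In

open In in
/-- Apply `core` to the induced representation. -/
theorem ind_kill {p : ℕ} [Fact p.Prime] {G n A : Type*} [Group G] [Finite G] [Fintype n] [DecidableEq n] [Group A]
    [Fintype A] (H : Subgroup G) (ρ : G →* Matrix n n (ZMod p))
    (hρ : Function.Surjective (MonoidAlgebra.lift (ZMod p) (Matrix n n (ZMod p)) G ρ))
    (σ : H →* Matrix n n (ZMod p)[X]) (h0 : ∀ h : H, (σ h).map (eval 0) = ρ h)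
    (hse : ∀ g x, x ∈ H → x ≠ 1 → x ^ p = 1 → g * x * g⁻¹ ∈ H → g ∈ H)
    (φ : A →* H) (hφ : Function.Injective φ) (hA : ∀ Y, ∑ a : A, σ (φ a) * Y * σ (φ a⁻¹) = 0)
    {x : MonoidAlgebra (ZMod p) H}
    (hx : MonoidAlgebra.lift (ZMod p) (Matrix n n (ZMod p)) H (ρ.comp H.subtype) x = 0) :
    MonoidAlgebra.lift (ZMod p) (Matrix n n (ZMod p)[X]) H σ x = 0 := by
  classical
  have := Fintype.ofFinite G
  have := Fintype.ofFinite (G ⧸ H)
  set c₀ : G ⧸ H := ((1 : G) : G ⧸ H) with hc₀
  obtain ⟨r, hr, r0⟩ : ∃ r : G ⧸ H → G, (∀ c, (r c : G ⧸ H) = c) ∧ r c₀ = 1 := by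
    refine ⟨Function.update Quotient.out c₀ 1, fun c => ?_, by simp⟩
    by_cases h : c = c₀
    · rw [h, Function.update_self]
    · rw [Function.update_of_ne h]
      exact c.out_eq'
  have ev : ∀ g ∈ H, (ext0 σ g).map (eval 0) = ρ g := fun g hg => by rw [ext0_mem σ hg, h0]
  have evm : ∀ a b : Matrix n n (ZMod p)[X], (a * b).map (eval 0) = a.map (eval 0) * b.map (eval 0) :=
    fun a b => Matrix.map_mul (f := evalRingHom (0 : ZMod p))
  have fix0 : ∀ h ∈ H, h • c₀ = c₀ := fun h hh =>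
    ((mem_iff hr h c₀ c₀).1 (by rwa [r0, inv_one, one_mul, mul_one])).symm
  obtain ⟨w, hw⟩ := exists_weight (G := G) (k := ZMod p) (fun z : (G ⧸ H) × (G ⧸ H) => z.1 ≠ z.2)
    (by
      rintro ⟨c, c'⟩ hne e
      rw [ZMod.natCast_eq_zero_iff] at e
      obtain ⟨⟨y, hy⟩, ho⟩ := exists_prime_orderOf_dvd_card' p e
      rw [← Subgroup.orderOf_coe] at ho
      rw [MulAction.mem_stabilizer_iff, Prod.smul_mk, Prod.mk.injEq] at hy
      have y1 : y ≠ 1 := by
        rintro rfl
        exact (Fact.out : p.Prime).one_lt.ne (by simpa using ho)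
      have yp : y ^ p = 1 := by rw [← ho]; exact pow_orderOf_eq_one y
      have m := hse ((r c')⁻¹ * r c) ((r c)⁻¹ * y * r c) ((mem_iff hr _ _ _).2 hy.1.symm)
        (fun e => y1 (by
          have : y = r c * ((r c)⁻¹ * y * r c) * (r c)⁻¹ := by group
          rw [this, e, mul_one, mul_inv_cancel]))
        (by
          have : (r c)⁻¹ * y * r c = (r c)⁻¹ * y * (r c)⁻¹⁻¹ := by rw [inv_inv]
          rw [this, conj_pow, yp, mul_one, mul_inv_cancel])
        (by
          have : (r c')⁻¹ * r c * ((r c)⁻¹ * y * r c) * ((r c')⁻¹ * r c)⁻¹ = (r c')⁻¹ * y * r c' := by group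
          rw [this]
          exact (mem_iff hr _ _ _).2 hy.2.symm)
      rw [← QuotientGroup.eq, hr, hr] at m
      exact hne m.symm)
    (fun g z => by simp)
  set θ : Matrix (G ⧸ H) (G ⧸ H) (Matrix n n (ZMod p)[X]) :=
    Matrix.of fun c c' => w (c, c') • (ρ ((r c)⁻¹ * r c')).map C with hθ
  refine core' ρ hρ (ind hr σ) (∑ g : G, ind hr σ g * θ * ind hr σ g⁻¹) (fun g => ?_)
    (fun c => ρ (r c)⁻¹) (fun c => ρ (r c)) (fun g c => ?_) (fun c c' => ?_) c₀ (fun Φ hΦ => ?_)
    (x := MonoidAlgebra.lift (ZMod p) (MonoidAlgebra (ZMod p) G) H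
      ((MonoidAlgebra.of (ZMod p) G).comp H.subtype) x) ?_ ?_
  · rw [Commute, SemiconjBy, Finset.mul_sum, Finset.sum_mul, ← Equiv.sum_comp (Equiv.mulLeft g)
      fun g' => ind hr σ g' * θ * ind hr σ g'⁻¹ * ind hr σ g]
    refine Finset.sum_congr rfl fun g' _ => ?_
    rw [Equiv.coe_mulLeft, mul_assoc (_ * θ), ← map_mul, map_mul _ g g']
    simp [mul_assoc]
  · rw [Finset.sum_eq_single (g⁻¹ • c)]
    · rw [ind_apply, ev _ ((mem_iff hr _ _ _).2 (smul_inv_smul g c).symm), ← map_mul, ← map_mul]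
      congr 1
      group
    · intro d _ hd
      rw [ind_apply, ext0_not σ fun e => hd (by rw [(mem_iff hr _ _ _).1 e, inv_smul_smul])]
      simp
    · simp
  · have e1 : ∀ g : G, ((ind hr σ g * θ * ind hr σ g⁻¹) c c').map (eval 0) =
        w (g⁻¹ • (c, c')) • ρ ((r c)⁻¹ * r c') := fun g => by
      rw [ind_conj, evm, evm, ev _ ((mem_iff hr _ _ _).2 (smul_inv_smul g c).symm),
        ev _ ((mem_iff hr _ _ _).2 rfl)]
      have e2 : (θ (g⁻¹ • c) (g⁻¹ • c')).map (eval 0) =
          w (g⁻¹ • (c, c')) • ρ ((r (g⁻¹ • c))⁻¹ * r (g⁻¹ • c')) := by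
        ext i j
        simp [hθ, -map_mul]
      rw [e2, mul_smul_comm, smul_mul_assoc, ← map_mul, ← map_mul]
      congr 2
      group
    have e3 : ((∑ g : G, ind hr σ g * θ * ind hr σ g⁻¹) c c').map (eval 0) =
        ∑ g : G, ((ind hr σ g * θ * ind hr σ g⁻¹) c c').map (eval 0) := by
      rw [Matrix.sum_apply]
      exact map_sum (evalRingHom (0 : ZMod p)).mapMatrix _ _
    rw [e3, Finset.sum_congr rfl fun g _ => e1 g, ← Finset.sum_smul, hw, ← map_mul]
    by_cases h : c = c'
    · simp [h]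
    · simp [h]
  · rw [Finset.sum_mul, Matrix.sum_apply]
    have e1 : ∀ g : G, ind hr σ g * θ * ind hr σ g⁻¹ * Φ = ind hr σ g * (θ * Φ) * ind hr σ g⁻¹ := fun g => by
      rw [mul_assoc, (hΦ g⁻¹).eq]
      simp only [mul_assoc]
    rw [Finset.sum_congr rfl fun g _ => by rw [e1 g]]
    refine sum_eq_zero (H.subtype.comp φ) (H.subtype_injective.comp hφ) _ fun y => ?_
    rw [← hA ((ind hr σ y * (θ * Φ) * ind hr σ y⁻¹) c₀ c₀)]
    refine Finset.sum_congr rfl fun a _ => ?_
    have e2 : ind hr σ ((H.subtype.comp φ) a * y) * (θ * Φ) * ind hr σ ((H.subtype.comp φ) a * y)⁻¹ =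
        ind hr σ (φ a) * (ind hr σ y * (θ * Φ) * ind hr σ y⁻¹) * ind hr σ (φ a : G)⁻¹ := by
      rw [mul_inv_rev, map_mul, map_mul]
      simp only [mul_assoc]
      rfl
    rw [e2, ind_conj, fix0 _ (H.inv_mem (φ a).2), r0, inv_one, one_mul, one_mul, mul_one, mul_one,
      ext0_mem σ (φ a).2, ext0_mem σ (H.inv_mem (φ a).2), map_inv φ]
    rfl
  · rw [← hx]
    clear hx
    induction x using MonoidAlgebra.induction_on with
    | of h => simp only [MonoidAlgebra.lift_of, MonoidHom.comp_apply]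
    | add x y hx hy => simp only [map_add, hx, hy]
    | smul s x hx => simp only [map_smul, hx]
  · clear hx
    intro c
    induction x using MonoidAlgebra.induction_on with
    | of h =>
      simp only [MonoidAlgebra.lift_of, MonoidHom.comp_apply]
      rw [ind_apply]
      split_ifs with e
      · rw [e, r0, inv_one, one_mul, mul_one]
        exact ext0_mem σ h.2
      · refine ext0_not σ fun e' => e ?_
        have := (mem_iff hr _ _ _).1 e'
        rw [← inv_smul_eq_iff] at this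
        rw [← this]
        exact fix0 _ (H.inv_mem h.2)
    | add x y hx hy =>
      simp only [map_add, Matrix.add_apply, hx, hy]
      split_ifs <;> simp
    | smul s x hx =>
      simp only [map_smul, Matrix.smul_apply, hx]
      split_ifs <;> simp

end CL.MCN
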