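import Cfsg.Agent.FUS.MC.PL2
import Cfsg.Agent.FUS.MC.Fus

/-! # Normal essential subgroups of `p`-groups of maximal class -/

set_option autoImplicit false

namespace CL.MCN

open Subgroup Cfsg CL.MaxCl CL.Fus
open scoped commutatorElement

variable {Ω : Type*} [Group Ω] {S : Subgroup Ω} {p n : ℕ}

theorem gamma_eq {Γ₁ : Subgroup Ω} (hΓ₁ : ∀ x : Ω, x ∈ Γ₁ ↔ x ∈ S ∧ ∀ y ∈ Subgroup.lowerCentralSeries S 1,
    x * y * x⁻¹ * y⁻¹ ∈ Subgroup.lowerCentralSeries S 3) : Γ₁ = (P S 1).map S.subtype := by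
  ext x
  rw [hΓ₁, ← map_lcs_top S 1, ← map_lcs_top S 3]
  constructor
  · rintro ⟨hx, h⟩
    refine ⟨⟨x, hx⟩, mem_cs.2 fun a ha => ?_, rfl⟩
    obtain ⟨b, hb, e⟩ := h a ⟨a, ha, rfl⟩
    exact (show b = ⁅(⟨x, hx⟩ : S), a⁆ from Subtype.ext e) ▸ hb
  · rintro ⟨x, hx, rfl⟩
    refine ⟨x.2, ?_⟩
    rintro _ ⟨a, ha, rfl⟩
    exact ⟨_, mem_cs.1 hx a ha, rfl⟩

variable [Finite S] [hp : Fact p.Prime] {F : FusionSystem S}

theorem cent_eq (h : IsMC p n S) (h4 : 4 ≤ n) :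
    S ⊓ centralizer (((Subgroup.upperCentralSeries S 2).map S.subtype : Subgroup Ω) : Set Ω) =
      (C S (n - 2)).map S.subtype := by
  rw [h.upperCentralSeries_eq h4 2 h4, h.C_last h4]
  ext x
  constructor
  · rintro ⟨hx, hc⟩
    exact ⟨⟨x, hx⟩, fun y hy => Subtype.ext (hc y ⟨y, hy, rfl⟩), rfl⟩
  · rintro ⟨x, hx, rfl⟩
    refine ⟨x.2, ?_⟩
    rintro _ ⟨y, hy, rfl⟩
    exact congrArg Subtype.val (hx y hy)

theorem exists_not_mem_two {G : Type*} [Group G] {E A B : Subgroup G} (h1 : ¬ E ≤ A) (h2 : ¬ E ≤ B) :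
    ∃ x ∈ E, x ∉ A ∧ x ∉ B := by
  obtain ⟨a, ha, ha'⟩ := SetLike.not_le_iff_exists.1 h1
  obtain ⟨b, hb, hb'⟩ := SetLike.not_le_iff_exists.1 h2
  by_cases e1 : a ∈ B
  · by_cases e2 : b ∈ A
    · exact ⟨a * b, mul_mem ha hb, fun e => ha' ((mul_mem_cancel_right e2).1 e),
        fun e => hb' ((mul_mem_cancel_left e1).1 e)⟩
    · exact ⟨b, hb, e2, hb'⟩
  · exact ⟨a, ha, ha', e1⟩

theorem index_eq (h : IsMC p n S) (h4 : 4 ≤ n) (hF : F.IsSaturated p) (h5 : 5 ≤ p) {E : Subgroup Ω}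
    (hE : F.IsEssential p E) (hEn : (E.subgroupOf S).Normal) : (E.subgroupOf S).index = p := by
  have key : ∀ i, 2 ≤ i → E.subgroupOf S ≠ P S i := fun i hi e => by
    obtain ⟨G, _, _, V, _, _, _, ρ, T, T1, H, s, z, hc⟩ := exists_ctx h h4 hF hi
      (by rwa [← e, subgroupOf_map_subtype, inf_of_le_left hE.1.1])
    exact hc.elim h5
  rcases h.normal_cases h4 (E.subgroupOf S) with h2 | ⟨i, hi, -, e⟩
  · have h3 := relIndex_mul_index h2
    rw [h.index_P le_rfl (by omega)] at h3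
    exact ((hp.out.mul_eq_prime_sq_iff (fun e => key 2 le_rfl (le_antisymm (relIndex_eq_one.1 e) h2)) fun e =>
      (lt_of_essential h.isPGroup hF hE).not_ge (subgroupOf_eq_top.1 (index_eq_one.1 e))).1 h3).2
  · exact absurd e (key i (by omega))

theorem eq_of_le_of_index {G : Type*} [Group G] [Finite G] {A B : Subgroup G} (h : A ≤ B) (e : A.index = B.index) :
    A = B := by
  have := relIndex_mul_index h
  rw [e] at this
  exact le_antisymm h (relIndex_eq_one.1 ((Nat.mul_eq_right index_ne_zero_of_finite).1 this))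

end CL.MCN
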