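import Cfsg.Agent.FUS.MC.PL3a

/-! # The case `|T| ≥ p³` -/

set_option autoImplicit false

namespace CL.MCN

open Subgroup CL.Fus Module LinearMap Polynomial

/-- elations with the centre and the axis of `Z` -/
def elat {G R : Type*} [Group G] [Ring R] (ρ : G →* R) {Z : R} (hZ : Z * Z = 0) : Subgroup G where
  carrier := {x | (∃ w, ρ x - 1 = Z * w) ∧ ∃ w, ρ x - 1 = w * Z}
  one_mem' := ⟨⟨0, by simp⟩, 0, by simp⟩
  mul_mem' := by
    rintro a b ⟨⟨w₁, h1⟩, w₂, h2⟩ ⟨⟨w₃, h3⟩, w₄, h4⟩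
    have e : ρ (a * b) - 1 = (ρ a - 1) * (ρ b - 1) + ((ρ a - 1) + (ρ b - 1)) := by rw [map_mul]; noncomm_ring
    have e0 : (ρ a - 1) * (ρ b - 1) = 0 := by rw [h2, h3, mul_assoc, mul_mul_zero hZ, mul_zero]
    rw [e0, zero_add] at e
    exact ⟨⟨w₁ + w₃, by rw [e, h1, h3, mul_add]⟩, w₂ + w₄, by rw [e, h2, h4, add_mul]⟩
  inv_mem' := by
    rintro a ⟨⟨w₁, h1⟩, w₂, h2⟩
    have e0 : (ρ a - 1) * (ρ a - 1) = 0 := by
      nth_rewrite 1 [h2]
      rw [h1, mul_assoc, mul_mul_zero hZ, mul_zero]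
    have e := rho_inv (add_sub_cancel 1 (ρ a)).symm e0
    exact ⟨⟨-w₁, by rw [e, h1]; simp⟩, -w₂, by rw [e, h2]; simp⟩

/-- the stability group of `V ≥ C ≥ W ≥ 0` -/
def stab3 {k G V : Type*} [Group G] [Ring k] [AddCommGroup V] [Module k V] (ρ : G →* Module.End k V)
    (C W : Submodule k V) : Subgroup G where
  carrier := {x | (∀ v, (ρ x - 1) v ∈ C) ∧ (∀ v ∈ C, (ρ x - 1) v ∈ W) ∧ ∀ v ∈ W, (ρ x - 1) v = 0}
  one_mem' := by simp
  mul_mem' := by
    rintro a b ⟨a1, a2, a3⟩ ⟨b1, b2, b3⟩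
    have e : ∀ v, (ρ (a * b) - 1) v = (ρ a - 1) ((ρ b - 1) v) + ((ρ a - 1) v + (ρ b - 1) v) := fun v => by
      simp
    refine ⟨fun v => ?_, fun v hv => ?_, fun v hv => ?_⟩ <;> rw [e]
    · exact add_mem (a1 _) (add_mem (a1 _) (b1 _))
    · rw [a3 _ (b2 v hv), zero_add]
      exact add_mem (a2 v hv) (b2 v hv)
    · rw [a3 v hv, b3 v hv, map_zero, zero_add, zero_add]
  inv_mem' := by
    rintro a ⟨a1, a2, a3⟩
    have e : ∀ v, (ρ a⁻¹ - 1) v = (ρ a - 1) ((ρ a - 1) v) - (ρ a - 1) v := fun v => by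
      have h1 : ρ a⁻¹ (ρ a ((ρ a - 1) ((ρ a - 1) v) - (ρ a - 1) v + v)) = ρ a⁻¹ v := by
        congr 1
        have := a3 _ (a2 _ (a1 v))
        simp only [LinearMap.sub_apply, Module.End.one_apply, map_sub, map_add] at this ⊢
        rw [← sub_eq_zero, ← this]
        abel
      rw [← Module.End.mul_apply, ← map_mul, inv_mul_cancel, map_one, Module.End.one_apply] at h1
      rw [LinearMap.sub_apply, ← h1, Module.End.one_apply, add_sub_cancel_right]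
    refine ⟨fun v => ?_, fun v hv => ?_, fun v hv => ?_⟩ <;> rw [e]
    · exact sub_mem (a1 _) (a1 _)
    · rw [a3 _ (a2 v hv), zero_sub]
      exact neg_mem (a2 v hv)
    · rw [a3 v hv, map_zero, sub_zero]

theorem trace_eq_zero {k V : Type*} [Field k] [AddCommGroup V] [Module k V] [Module.Finite k V] (W : Submodule k V)
    {b s s' : Module.End k V} (hb : ∀ v ∈ W, b v ∈ W) (hs : ∀ v ∈ W, s v ∈ W) (hs' : ∀ v ∈ W, s' v ∈ W) (h1 : s * s' = 1)
    (h2 : s' * s = 1) {e : k} (h : ∀ v ∈ W, b (s v) = s (b v) + e • s v) : e * finrank k W = 0 := by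
  have i1 : s.restrict hs * s'.restrict hs' = 1 := by
    ext v
    exact congrArg (fun f : Module.End k V => f v) h1
  have i2 : s'.restrict hs' * s.restrict hs = 1 := by
    ext v
    exact congrArg (fun f : Module.End k V => f v) h2
  have i3 : b.restrict hb * s.restrict hs = s.restrict hs * b.restrict hb + e • s.restrict hs := by
    ext v
    exact h v v.2
  have := congrArg (fun f => trace k W (f * s'.restrict hs')) i3
  simp only [add_mul, map_add, smul_mul_assoc, map_smul, mul_assoc, i1, trace_one, mul_one] at this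
  rw [trace_mul_comm, mul_assoc, i2, mul_one, left_eq_add] at this
  exact this

namespace Ctx
variable {p : ℕ} [hp : Fact p.Prime] {G V : Type*} [Group G] [AddCommGroup V] [Module (ZMod p) V]
  {ρ : G →* Module.End (ZMod p) V} {T T1 H : Subgroup G} {s z : G} (h : Ctx p ρ T T1 H s z)
  [Finite G] [Module.Finite (ZMod p) V]
include h

theorem elat_le (hZ : (ρ z - 1) * (ρ z - 1) = 0) : elat ρ hZ ≤ zpowers z := by
  obtain ⟨d, g, h2, hd, -, -, hW, -⟩ := h.exists_d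
  have hn : ∀ t ∈ T, ∀ x ∈ elat ρ hZ, t * x * t⁻¹ ∈ elat ρ hZ := by
    rintro t ht x ⟨⟨w₁, h1⟩, w₂, h2⟩
    have e : ρ (t * x * t⁻¹) - 1 = ρ t * (ρ x - 1) * ρ t⁻¹ := by
      rw [mul_sub, sub_mul, mul_one, ← map_mul, ← map_mul, ← map_mul, mul_inv_cancel, map_one]
    exact ⟨⟨ρ t * w₁ * ρ t⁻¹, by rw [e, h1, ← (h.comm_Z ht).left_comm, mul_assoc]⟩,
      ρ t * w₂ * ρ t⁻¹, by rw [e, h2, mul_assoc, mul_assoc, (h.comm_Z (inv_mem ht)).eq, mul_assoc, mul_assoc]⟩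
  have hT : elat ρ hZ ≤ T := h.syl.le_of_le_normalizer le_top (by
    rintro ⟨x, ⟨w₁, h1⟩, w₂, h2⟩
    obtain ⟨j, hj⟩ := h.pow_eq_one_of_nil (x := x) ⟨2, by
      rw [pow_two]
      nth_rewrite 1 [h2]
      rw [h1, mul_assoc, mul_mul_zero hZ, mul_zero]⟩
    exact ⟨j, Subtype.ext hj⟩) fun t ht => mem_normalizer_iff.2 fun x =>
      ⟨hn t ht x, fun hx => by simpa [mul_assoc] using hn _ (inv_mem ht) _ hx⟩
  by_contra hne
  obtain ⟨y, hy, hy', hc⟩ := exists_rel_cent h.syl.isPGroup hT (lt_of_le_not_ge (zpowers_le.2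
    ⟨⟨1, (mul_one _).symm⟩, 1, (one_mul _).symm⟩) hne) hn fun t ht x hx => by
      obtain ⟨i, rfl⟩ := hx
      rw [← ((h.z_cent ht).zpow_left i).eq, mul_inv_cancel_right]
      exact ⟨i, rfl⟩
  obtain ⟨c, hc0, hc1⟩ := h.exists_lam (hT hy)
  obtain ⟨⟨w₁, h1⟩, w₂, h3⟩ := hy
  have hD : (ρ s - 1) ^ (0 + 2) ≠ 0 := fun e => by have := h.jb.pow_eq_zero_iff.1 e; omega
  have hy1 : y ∈ T1 := hc0 (h.eq_zero_of_smul hD fun v hv => by
    have : (ρ y - 1) v ∈ range ((ρ s - 1) ^ (0 + 2)) := by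
      rw [h1]
      exact h.degz _
    simpa using sub_mem this (hc1 0 hD v hv))
  obtain ⟨a, ha⟩ := mem_powers_iff_mem_zpowers.2 (hc s h.s_mem)
  have ha' : y * s = z ^ a * s * y := by rw [show z ^ a = _ from ha]; group
  have k1 : ρ y = 1 + w₂ * (ρ z - 1) := by rw [← h3, add_sub_cancel]
  have k2 : (ρ z - 1) * ρ y = ρ z - 1 := by
    rw [show ρ y = 1 + (ρ z - 1) * w₁ by rw [← h1, add_sub_cancel], mul_add, mul_mul_zero hZ, mul_one, add_zero]
  have k3 : w₂ * (ρ s * (ρ z - 1)) = ρ s * (w₂ * (ρ z - 1)) + (a : ZMod p) • (ρ s * (ρ z - 1)) := by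
    have := congrArg ρ ha'
    rw [map_mul, map_mul, map_mul, rho_pow (add_sub_cancel 1 (ρ z)).symm hZ, add_mul, add_mul, one_mul,
      mul_assoc (a : Module.End (ZMod p) V), (h.comm_Z h.s_mem).eq, mul_assoc (a : Module.End (ZMod p) V),
      mul_assoc (ρ s), k2, k1, add_mul, mul_add, one_mul, mul_one, add_assoc, add_right_inj, mul_assoc,
      (h.comm_Z h.s_mem).eq] at this
    rw [this, Nat.cast_smul_eq_nsmul, nsmul_eq_mul]
  have k4 := trace_eq_zero (range (ρ z - 1)) (b := w₂) (s := ρ s) (s' := ρ s⁻¹) (e := a)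
    (by rintro _ ⟨v, rfl⟩; exact ⟨w₁ v, by rw [← Module.End.mul_apply, ← h1, h3, Module.End.mul_apply]⟩)
    (hW ▸ fun v hv => h.mem_range h.s_mem hv) (hW ▸ fun v hv => h.mem_range (inv_mem h.s_mem) hv)
    (by rw [← map_mul, mul_inv_cancel, map_one]) (by rw [← map_mul, inv_mul_cancel, map_one])
    (by rintro _ ⟨v, rfl⟩; exact congrArg (fun f : Module.End (ZMod p) V => f v) k3)
  rw [hW, h.jb.finrank_range_pow, mul_eq_zero, ZMod.natCast_eq_zero_iff, ZMod.natCast_eq_zero_iff] at k4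
  rcases k4 with ⟨b, rfl⟩ | k4
  · rw [pow_mul, h.z_pow, one_pow, one_mul] at ha'
    exact hy' (h.cent y hy1 ha')
  · have := Nat.le_of_dvd (by omega) k4
    have := h.finrank_le
    omega

theorem exists_scalar (h5 : 5 ≤ p) (hZ : (ρ z - 1) * (ρ z - 1) = 0) : ∃ (k : G) (a : ZMod p), a ≠ 1 ∧
    ρ k * (ρ z - 1) = a • (ρ z - 1) ∧ a • ((ρ z - 1) * ρ k) = ρ z - 1 ∧
      ∃ w₁ w₂, ρ k - 1 = (ρ z - 1) * w₁ + w₂ * (ρ z - 1) := by
  obtain ⟨g, -, hg⟩ := SetLike.not_le_iff_exists.1 (mt top_le_iff.1 h.ne_top)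
  have : Finite V := Module.finite_of_finite (ZMod p)
  have : Finite (Module.End (ZMod p) V) := DFunLike.finite _
  have z1 : z ∈ closure ({z, g * z * g⁻¹} : Set G) := subset_closure (by simp)
  have z2 : g * z * g⁻¹ ∈ closure ({z, g * z * g⁻¹} : Set G) := subset_closure (by simp)
  have i1 : ∀ t, ρ g⁻¹ * (ρ g * t) = t := fun t => by rw [← mul_assoc, ← map_mul, inv_mul_cancel, map_one, one_mul]
  have i2 : ρ g⁻¹ * ρ g = 1 := by rw [← map_mul, inv_mul_cancel, map_one]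
  have hP : Pair p (ρ.comp (closure ({z, g * z * g⁻¹} : Set G)).subtype) ⟨z, z1⟩ ⟨_, z2⟩ (ρ z - 1)
      (ρ g * (ρ z - 1) * ρ g⁻¹) :=
    { ez := (add_sub_cancel _ _).symm
      ez' := by
        rw [mul_sub, sub_mul, mul_one, ← map_mul, ← map_mul, ← map_mul, mul_inv_cancel, map_one, add_sub_cancel]
        rfl
      sq := hZ
      sq' := by simp only [mul_assoc, i1, mul_mul_zero hZ, mul_zero]
      five := h5
      inj := h.inj.comp (subtype_injective _)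
      top := by
        rw [← closure_closure_coe_preimage]
        congr 1
        ext x
        simp [Subtype.ext_iff]
      pow := Subtype.ext h.z_pow
      pow' := Subtype.ext (by simp [conj_pow, h.z_pow])
      ne := fun e => h.z_ne (congrArg Subtype.val e)
      ne' := fun e => h.z_ne (conj_eq_one_iff.1 (congrArg Subtype.val e))
      el := fun x w₁ w₂ h1 h2 => by
        obtain ⟨i, hi⟩ := h.elat_le hZ (show (x : G) ∈ elat ρ hZ from ⟨⟨w₁, h1⟩, w₂, h2⟩)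
        exact ⟨i, Subtype.ext hi⟩
      el' := fun x w₁ w₂ h1 h2 => by
        have e : ρ (g⁻¹ * x * g) - 1 = ρ g⁻¹ * (ρ x - 1) * ρ g := by
          rw [mul_sub, sub_mul, mul_one, i2, ← map_mul, ← map_mul]
        change ρ x - 1 = _ at h1 h2
        obtain ⟨i, hi⟩ := h.elat_le hZ (show g⁻¹ * x * g ∈ elat ρ hZ from
          ⟨⟨ρ g⁻¹ * w₁ * ρ g, by rw [e, h1]; simp only [mul_assoc, i1]⟩,
            ρ g⁻¹ * w₂ * ρ g, by rw [e, h2]; simp only [mul_assoc, i2, mul_one]⟩)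
        refine ⟨i, Subtype.ext ?_⟩
        change (g * z * g⁻¹) ^ i = x
        rw [conj_zpow, show z ^ i = _ from hi]
        group
      np := fun N hN hpN => by
        by_contra h0
        have hn : closure ({z, g * z * g⁻¹} : Set G) ≤
            normalizer (N.map (closure ({z, g * z * g⁻¹} : Set G)).subtype : Set G) := by
          have := le_normalizer_map (H := N) (closure ({z, g * z * g⁻¹} : Set G)).subtype
          rwa [normalizer_eq_top, ← MonoidHom.range_eq_map, range_subtype] at this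
        exact hg (h.mem_H_of_conj (h.normalizer_le (hpN.map _)
          (mt (map_eq_bot_iff_of_injective _ (subtype_injective _)).1 h0) (hn z1) (hn z2))) }
  obtain ⟨k, a, hk⟩ := hP.exists_scalar
  exact ⟨k, a, hk⟩

omit [Module.Finite (ZMod p) V] in
theorem conj_mem {k : G} {a : ZMod p} (ha : a ≠ 0) (h1 : ρ k * (ρ z - 1) = a • (ρ z - 1))
    (h2 : a • ((ρ z - 1) * ρ k) = ρ z - 1) (h3 : ∀ v ∈ ker (ρ z - 1), ρ k v - v ∈ range (ρ z - 1)) :
    k * s * k⁻¹ ∈ T := by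
  have hC : ∀ t ∈ T, ∀ v ∈ ker (ρ z - 1), ρ t v ∈ ker (ρ z - 1) := fun t ht v hv => by
    rw [mem_ker, ← Module.End.mul_apply, (h.comm_Z ht).eq, Module.End.mul_apply, mem_ker.1 hv, map_zero]
  have hW : ∀ t ∈ T, ∀ v ∈ range (ρ z - 1), ρ t v ∈ range (ρ z - 1) := by
    rintro t ht _ ⟨v, rfl⟩
    exact ⟨ρ t v, by rw [← Module.End.mul_apply, (h.comm_Z ht).eq, Module.End.mul_apply]⟩
  have hn : ∀ t ∈ T, ∀ x ∈ stab3 ρ (ker (ρ z - 1)) (range (ρ z - 1)),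
      t * x * t⁻¹ ∈ stab3 ρ (ker (ρ z - 1)) (range (ρ z - 1)) := by
    rintro t ht x ⟨a1, a2, a3⟩
    have e : ∀ v, (ρ (t * x * t⁻¹) - 1) v = ρ t ((ρ x - 1) (ρ t⁻¹ v)) := fun v => by
      rw [← Module.End.mul_apply, ← Module.End.mul_apply, mul_sub, sub_mul, mul_one, ← map_mul, ← map_mul, ← map_mul,
        mul_inv_cancel, map_one]
    refine ⟨fun v => ?_, fun v hv => ?_, fun v hv => ?_⟩ <;> rw [e]
    · exact hC t ht _ (a1 _)
    · exact hW t ht _ (a2 _ (hC _ (inv_mem ht) _ hv))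
    · rw [a3 _ (hW _ (inv_mem ht) _ hv), map_zero]
  have hT : stab3 ρ (ker (ρ z - 1)) (range (ρ z - 1)) ≤ T := h.syl.le_of_le_normalizer le_top (by
    rintro ⟨x, a1, a2, a3⟩
    obtain ⟨j, hj⟩ := h.pow_eq_one_of_nil (x := x) ⟨3, LinearMap.ext fun v => a3 _ (a2 _ (a1 v))⟩
    exact ⟨j, Subtype.ext hj⟩) fun t ht => mem_normalizer_iff.2 fun x =>
      ⟨hn t ht x, fun hx => by simpa [mul_assoc] using hn _ (inv_mem ht) _ hx⟩
  have e : ∀ (c : ZMod p) v, (ρ (k * s * k⁻¹ * s⁻¹) - 1) v = (ρ k (ρ s (ρ (k⁻¹ * s⁻¹) v)) - c • ρ s (ρ (k⁻¹ * s⁻¹) v)) -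
      ρ s (ρ k (ρ (k⁻¹ * s⁻¹) v) - c • ρ (k⁻¹ * s⁻¹) v) := fun c v => by
    rw [map_sub, map_smul, sub_sub_sub_cancel_right]
    simp only [← Module.End.mul_apply, ← map_mul, mul_inv_cancel_left, mul_inv_cancel, map_one, mul_assoc]
    rfl
  have i1 : ρ k * ρ k⁻¹ = 1 := by rw [← map_mul, mul_inv_cancel, map_one]
  have i2 : ρ k⁻¹ * ρ k = 1 := by rw [← map_mul, inv_mul_cancel, map_one]
  have c1 : ∀ v, ρ k v - a⁻¹ • v ∈ ker (ρ z - 1) := fun v => by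
    rw [mem_ker, map_sub, map_smul, ← Module.End.mul_apply, sub_eq_zero, eq_inv_smul_iff₀ ha, ← LinearMap.smul_apply, h2]
  have c3 : ∀ v ∈ range (ρ z - 1), ρ k v - a • v = 0 := by
    rintro _ ⟨v, rfl⟩
    rw [← Module.End.mul_apply, h1, LinearMap.smul_apply, sub_self]
  have d2 : ∀ v ∈ ker (ρ z - 1), ρ (k⁻¹ * s⁻¹) v ∈ ker (ρ z - 1) := fun v hv => by
    rw [map_mul, Module.End.mul_apply, mem_ker, ← Module.End.mul_apply, ← h2, smul_mul_assoc, mul_assoc, i1, mul_one,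
      LinearMap.smul_apply, mem_ker.1 (hC _ (inv_mem h.s_mem) v hv), smul_zero]
  have d3 : ∀ v ∈ range (ρ z - 1), ρ (k⁻¹ * s⁻¹) v ∈ range (ρ z - 1) := fun v hv => by
    obtain ⟨u, hu⟩ := hW _ (inv_mem h.s_mem) v hv
    refine ⟨a⁻¹ • u, ?_⟩
    rw [map_mul, Module.End.mul_apply, ← hu, map_smul, inv_smul_eq_iff₀ ha, ← map_smul, ← LinearMap.smul_apply, ← h1,
      ← Module.End.mul_apply, ← mul_assoc, i2, one_mul]
  have := hT (show k * s * k⁻¹ * s⁻¹ ∈ _ from ⟨fun v => ?_, fun v hv => ?_, fun v hv => ?_⟩)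
  · simpa using mul_mem this h.s_mem
  · rw [e a⁻¹]
    exact sub_mem (c1 _) (hC _ h.s_mem _ (c1 _))
  · rw [e 1, one_smul, one_smul]
    exact sub_mem (h3 _ (hC _ h.s_mem _ (d2 v hv))) (hW _ h.s_mem _ (h3 _ (d2 v hv)))
  · rw [e a, c3 _ (hW _ h.s_mem _ (d3 v hv)), c3 _ (d3 v hv), map_zero, sub_zero]

theorem finrank_ne_three (hne : T1 ≠ zpowers z) : finrank (ZMod p) V ≠ 3 := fun h3 => by
  obtain ⟨y, hy, hy', -⟩ := h.exists_y hne
  have hD : (ρ s - 1) ^ (0 + 2) ≠ 0 := fun e => by have := h.jb.pow_eq_zero_iff.1 e; omega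
  have hD3 : (ρ s - 1) ^ (2 + 1) = 0 := h.jb.pow_eq_zero_iff.2 h3.le
  have hW : ∀ u ∈ T1, ∀ v, (ρ u - 1) v ∈ range ((ρ s - 1) ^ 2) := fun u hu v => h.deg2 u hu 0 hD v ⟨v, rfl⟩
  have hK : ∀ u ∈ T1, ∀ v ∈ range ((ρ s - 1) ^ 2), (ρ u - 1) v = 0 := fun u hu v hv => by
    simpa [hD3] using h.deg1 u (h.le hu) 2 v hv
  have hsq : ∀ u ∈ T1, ∀ u' ∈ T1, (ρ u - 1) * (ρ u' - 1) = 0 := fun u hu u' hu' =>
    LinearMap.ext fun v => hK u hu _ (hW u' hu' v)
  have hpow : ∀ u ∈ T1, u ^ p = 1 := fun u hu => h.inj (by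
    rw [rho_pow (add_sub_cancel 1 (ρ u)).symm (hsq u hu u hu), map_one, ← nsmul_eq_mul, ← Nat.cast_smul_eq_nsmul (ZMod p)]
    simp)
  obtain ⟨w, hw, hw'⟩ := SetLike.not_le_iff_exists.1 (mt h.jb.eq_bot_of_le hD)
  have hspan : ∀ v ∈ range ((ρ s - 1) ^ 2), ∃ c : ZMod p, v = c • w := fun v hv => by
    obtain ⟨c, hc⟩ := h.jb.exists_smul hw hw' hv
    exact ⟨c, by simpa [hD3, sub_eq_zero] using hc⟩
  have key : ∀ v, ∃ x ∈ T1, x ≠ 1 ∧ (ρ x - 1) v = 0 := fun v => by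
    obtain ⟨b, hb⟩ := hspan _ (hW z h.z_mem v)
    by_cases hb0 : b = 0
    · exact ⟨z, h.z_mem, h.z_ne, by rw [hb, hb0, zero_smul]⟩
    obtain ⟨a, ha⟩ := hspan _ (hW y hy v)
    refine ⟨y * z ^ (-(a / b)).val, mul_mem hy (pow_mem h.z_mem _), fun e => hy' ?_, ?_⟩
    · rw [mul_eq_one_iff_eq_inv.1 e]
      exact inv_mem (pow_mem (mem_zpowers z) _)
    · have e : ρ (y * z ^ (-(a / b)).val) - 1 = (ρ y - 1) * (ρ (z ^ (-(a / b)).val) - 1) + ((ρ y - 1) +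
          (ρ (z ^ (-(a / b)).val) - 1)) := by rw [map_mul]; noncomm_ring
      rw [e, hsq y hy _ (pow_mem h.z_mem _), zero_add, rho_pow (add_sub_cancel 1 (ρ z)).symm
        (hsq z h.z_mem z h.z_mem), add_sub_cancel_left, ← nsmul_eq_mul, ← Nat.cast_smul_eq_nsmul (ZMod p),
        ZMod.natCast_zmod_val, LinearMap.add_apply, LinearMap.smul_apply, ha, hb, smul_smul, ← add_smul, neg_mul,
        div_mul_cancel₀ _ hb0, add_neg_cancel, zero_smul]
  obtain ⟨g, -, hg⟩ := SetLike.not_le_iff_exists.1 (mt top_le_iff.1 h.ne_top)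
  obtain ⟨x, hx, hx1, e1⟩ := key (ρ g w)
  obtain ⟨x', hx', hx1', e2⟩ := key (ρ g⁻¹ w)
  have e : ρ (g * x' * g⁻¹) - 1 = ρ g * (ρ x' - 1) * ρ g⁻¹ := by
    rw [mul_sub, sub_mul, mul_one, ← map_mul, ← map_mul, ← map_mul, mul_inv_cancel, map_one]
  have c1 : (ρ x - 1) * (ρ (g * x' * g⁻¹) - 1) = 0 := LinearMap.ext fun v => by
    obtain ⟨c, hc⟩ := hspan _ (hW x' hx' (ρ g⁻¹ v))
    rw [e, Module.End.mul_apply, Module.End.mul_apply, Module.End.mul_apply, hc, map_smul, map_smul, e1, smul_zero,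
      LinearMap.zero_apply]
  have c2 : (ρ (g * x' * g⁻¹) - 1) * (ρ x - 1) = 0 := LinearMap.ext fun v => by
    obtain ⟨c, hc⟩ := hspan _ (hW x hx v)
    rw [e, Module.End.mul_apply, Module.End.mul_apply, Module.End.mul_apply, hc, map_smul, map_smul, e2, smul_zero,
      map_zero, LinearMap.zero_apply]
  have c3 : g * x' * g⁻¹ * x = x * (g * x' * g⁻¹) := h.inj (by
    have := (show Commute (ρ (g * x' * g⁻¹) - 1) (ρ x - 1) from c2.trans c1.symm).add_left (Commute.one_left _)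
      |>.add_right (Commute.one_right _)
    rw [sub_add_cancel, sub_add_cancel] at this
    rw [map_mul, this.eq, ← map_mul])
  have hH := fun u (hu : u ∈ T1) => h.le_H (h.le hu)
  exact hg (h.se g x' (hH _ hx') hx1' (hpow _ hx') (h.se _ x (hH _ hx) hx1 (hpow _ hx)
    (by rw [c3, mul_inv_cancel_right]; exact hH _ hx)))

theorem eq_zpowers (h5 : 5 ≤ p) : T1 = zpowers z := by
  by_contra hne
  obtain ⟨d, g, h2, hd, hg, e, hW, hC⟩ := h.exists_d
  have hm := h.le_two_mul hne h2 hd hg e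
  have h3 := h.finrank_ne_three hne
  have hZ : (ρ z - 1) * (ρ z - 1) = 0 := LinearMap.ext fun v => by
    have : (ρ z - 1) v ∈ ker (ρ z - 1) := hC ▸ range_pow_anti _ (by omega) (hW.le ⟨v, rfl⟩)
    exact this
  obtain ⟨k, a, ha, h1, h2', w₁, w₂, h3'⟩ := h.exists_scalar h5 hZ
  have ha0 : a ≠ 0 := fun e0 => h.Z_ne (by rw [← h2', e0, zero_smul])
  have c2 : ∀ v ∈ ker (ρ z - 1), ρ k v - v ∈ range (ρ z - 1) := fun v hv => ⟨w₁ v, by
    have := congrArg (fun f : Module.End (ZMod p) V => f v) h3'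
    simp only [LinearMap.add_apply, Module.End.mul_apply, mem_ker.1 hv, map_zero, add_zero] at this
    exact this.symm⟩
  have c1 : ∀ v, ρ k v - a⁻¹ • v ∈ ker (ρ z - 1) := fun v => by
    rw [mem_ker, map_sub, map_smul, ← Module.End.mul_apply, sub_eq_zero, eq_inv_smul_iff₀ ha0, ← LinearMap.smul_apply,
      h2']
  obtain ⟨c, hc⟩ := h.ratio (h.conj_mem ha0 h1 h2' c2)
  rw [hC] at c1
  rw [hC, hW] at c2
  have hD : ∀ j, j < finrank (ZMod p) V → (ρ s - 1) ^ j ≠ 0 := fun j hj e => by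
    have := h.jb.pow_eq_zero_iff.1 e
    omega
  have r1 : ∀ j, j < finrank (ZMod p) V - d → ∀ v ∈ range ((ρ s - 1) ^ j),
      ρ k v - a⁻¹ • v ∈ range ((ρ s - 1) ^ (j + 1)) := fun j hj v _ => range_pow_anti _ hj (c1 v)
  have r2 : ∀ j, finrank (ZMod p) V - d ≤ j → j < d → ∀ v ∈ range ((ρ s - 1) ^ j),
      ρ k v - (1 : ZMod p) • v ∈ range ((ρ s - 1) ^ (j + 1)) := fun j hj hj' v hv => by
    rw [one_smul]
    exact range_pow_anti _ hj' (c2 v (range_pow_anti _ hj hv))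
  obtain ⟨w, hw⟩ : ∃ w, finrank (ZMod p) V - d = w + 1 := ⟨finrank (ZMod p) V - d - 1, by omega⟩
  have k1 := hc w (hD _ (by omega)) _ _ (r1 w (by omega)) (r2 (w + 1) hw.le (by omega))
  have k2 : c = 1 := by
    rcases w with _ | w
    · simpa using (hc 1 (hD _ (by omega)) _ _ (r2 1 hw.le (by omega)) (r2 2 (by omega) (by omega))).symm
    · exact mul_right_cancel₀ (inv_ne_zero ha0)
        ((hc 0 (hD _ (by omega)) _ _ (r1 0 (by omega)) (r1 1 (by omega))).symm.trans (one_mul _).symm)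
  rw [k2, one_mul] at k1
  exact ha (inv_eq_one.1 k1.symm)

end Ctx

end CL.MCN
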