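import Cfsg.Agent.FUS.MC.PL2a
import Cfsg.Agent.FUS.MC.PL3

/-! # The linear situation is impossible for `p ≥ 5` -/

set_option autoImplicit false

namespace CL.MCN

open Subgroup CL.Fus Module LinearMap Polynomial

variable {p : ℕ} [hp : Fact p.Prime] {G : Type*} [Group G]

theorem exists_hom_pair {x y : G} (hx : x ^ p = 1) (hy : y ^ p = 1) (hc : Commute x y) (h1 : y ≠ 1)
    (h2 : x ∉ zpowers y) : ∃ φ : Multiplicative (ZMod p × ZMod p) →* G, Function.Injective φ ∧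
      φ (Multiplicative.ofAdd (1, 0)) = x ∧ φ (Multiplicative.ofAdd (0, 1)) = y ∧ φ.range = zpowers x ⊔ zpowers y := by
  have e : ∀ {u : G}, u ^ p = 1 → ∀ a b : ZMod p, u ^ (a + b).val = u ^ a.val * u ^ b.val := fun hu a b => by
    rw [ZMod.val_add, ← pow_eq_pow_mod _ hu, pow_add]
  let φ : Multiplicative (ZMod p × ZMod p) →* G := MonoidHom.mk' (fun i => x ^ i.toAdd.1.val * y ^ i.toAdd.2.val)
    fun a b => by
      simp only [toAdd_mul, Prod.fst_add, Prod.snd_add, e hx, e hy, mul_assoc]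
      rw [(hc.pow_pow _ _).left_comm]
  have φ1 : φ (Multiplicative.ofAdd (1, 0)) = x := by simp [φ, ZMod.val_one]
  have φ2 : φ (Multiplicative.ofAdd (0, 1)) = y := by simp [φ, ZMod.val_one]
  have z0 : ∀ {u : G}, u ^ p = 1 → u ≠ 1 → ∀ a : ZMod p, u ^ a.val = 1 → a = 0 := fun hu h1 a ha => by
    have := orderOf_dvd_of_pow_eq_one ha
    rw [orderOf_eq_prime hu h1] at this
    exact (ZMod.val_eq_zero a).1 (Nat.eq_zero_of_dvd_of_lt this (ZMod.val_lt a))
  refine ⟨φ, (injective_iff_map_eq_one φ).2 fun a ha => ?_, φ1, φ2, le_antisymm ?_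
    (sup_le (zpowers_le.2 ⟨_, φ1⟩) (zpowers_le.2 ⟨_, φ2⟩))⟩
  · change x ^ a.toAdd.1.val * y ^ a.toAdd.2.val = 1 at ha
    have h3 : x ^ a.toAdd.1.val = 1 := by
      by_contra h0
      exact h2 (zpowers_le.2 (mul_eq_one_iff_eq_inv.1 ha ▸ inv_mem (pow_mem (mem_zpowers y) _))
        (mem_zpowers_of_mem hx (pow_mem (mem_zpowers x) _) h0))
    rw [h3, one_mul] at ha
    exact Multiplicative.toAdd.injective (Prod.ext (z0 hx (fun e => h2 (e ▸ one_mem _)) _ h3) (z0 hy h1 _ ha))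
  · rintro _ ⟨a, rfl⟩
    exact mul_mem (mem_sup_left (pow_mem (mem_zpowers x) _)) (mem_sup_right (pow_mem (mem_zpowers y) _))

namespace Ctx
variable {V : Type*} [AddCommGroup V] [Module (ZMod p) V] {ρ : G →* Module.End (ZMod p) V} {T H : Subgroup G} {s z : G}
  [Finite G] [Module.Finite (ZMod p) V] (h : Ctx p ρ T (zpowers z) H s z)
include h

theorem exists_sq {t : G} (ht : t ∈ zpowers z) : ∃ f : (ZMod p)[X], ρ t = aeval (ρ s - 1) (1 + X ^ 2 * f) := by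
  obtain ⟨d, g, h2, hd, -, e, -⟩ := h.exists_d
  obtain ⟨a, rfl⟩ := mem_powers_iff_mem_zpowers.2 ht
  obtain ⟨l, rfl⟩ := Nat.exists_eq_add_of_le h2
  obtain ⟨r, hr⟩ := sub_dvd_pow_sub_pow (1 + X ^ (2 + l) * g) 1 a
  refine ⟨X ^ l * g * r, ?_⟩
  have e1 : (1 + X ^ 2 * (X ^ l * g * r) : (ZMod p)[X]) = (1 + X ^ (2 + l) * g) ^ a := by
    rw [sub_eq_iff_eq_add.1 hr]
    ring
  simp [e1, ← e]

theorem pow_eq_zero_of_mem {t : G} (ht : t ∈ zpowers z) : (ρ t - 1) ^ (finrank (ZMod p) V - 1) = 0 := by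
  obtain ⟨d, -, h2, hd, -⟩ := h.exists_d
  obtain ⟨f, hf⟩ := h.exists_sq ht
  rw [hf, map_add, map_one, add_sub_cancel_left, ← map_pow, mul_pow, ← pow_mul, map_mul, map_pow, aeval_X,
    h.jb.pow_eq_zero_iff.2 (by omega), zero_mul]

theorem jb_of_not_mem {t : G} (ht : t ∈ T) (ht' : t ∉ zpowers z) : Jb (ρ t - 1) := by
  obtain ⟨a, u, hu, rfl⟩ := h.gen t ht
  obtain ⟨f, hf⟩ := h.exists_sq hu
  have ha : (a : ZMod p) ≠ 0 := fun e => by
    obtain ⟨b, rfl⟩ := (ZMod.natCast_eq_zero_iff a p).1 e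
    exact ht' (by rwa [pow_mul, h.s_pow, one_pow, one_mul])
  have e : ρ (s ^ a * u) - 1 = aeval (ρ s - 1) (∑ i ∈ Finset.range a, (1 + X) ^ i + X * ((1 + X) ^ a * f)) *
      (ρ s - 1) := by
    have e1 : ((∑ i ∈ Finset.range a, (1 + X) ^ i + X * ((1 + X) ^ a * f)) * X : (ZMod p)[X]) =
        (1 + X) ^ a * (1 + X ^ 2 * f) - 1 := by
      have := geom_sum_mul (1 + X : (ZMod p)[X]) a
      rw [add_sub_cancel_left] at this
      rw [add_mul, this]
      ring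
    conv_rhs => rhs; rw [← aeval_X (R := ZMod p) (ρ s - 1)]
    rw [← map_mul, e1, map_sub, map_mul (aeval _), ← hf]
    simp
  have hu := h.jb.isUnit_aeval (g := ∑ i ∈ Finset.range a, (1 + X) ^ i + X * ((1 + X) ^ a * f))
    (by simpa [coeff_zero_eq_eval_zero, eval_finsetSum] using ha)
  rw [e]
  refine ⟨Commute.isNilpotent_mul_left (Commute.symm (semiconj_aeval (Commute.refl _) _)) h.jb.nil, ?_⟩
  rw [Module.End.mul_eq_comp, ker_comp_of_ker_eq_bot _ (ker_eq_bot.2 ((Module.End.isUnit_iff _).1 hu).1)]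
  exact h.ker_le

theorem mem_iff {t : G} (ht : t ∈ T) : t ∈ zpowers z ↔ (ρ t - 1) ^ (finrank (ZMod p) V - 1) = 0 := by
  refine ⟨h.pow_eq_zero_of_mem, fun e => by_contra fun ht' => ?_⟩
  obtain ⟨d, -, h2, hd, -⟩ := h.exists_d
  have := (h.jb_of_not_mem ht ht').pow_eq_zero_iff.1 e
  omega

theorem conj_mem_iff {t g : G} (ht : t ∈ T) (ht' : g * t * g⁻¹ ∈ T) : g * t * g⁻¹ ∈ zpowers z ↔ t ∈ zpowers z := by
  have e : SemiconjBy (ρ g) (ρ t - 1) (ρ (g * t * g⁻¹) - 1) := by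
    rw [SemiconjBy, mul_sub, sub_mul, ← map_mul, ← map_mul, inv_mul_cancel_right, mul_one, one_mul]
  have hu := (Group.isUnit g).map ρ
  rw [h.mem_iff ht, h.mem_iff ht', ← hu.mul_left_eq_zero, ← (e.pow_right _).eq, hu.mul_right_eq_zero]

omit [Module.Finite (ZMod p) V] in
theorem le_N : T ≤ normalizer (zpowers z : Set G) := fun _ ht =>
  centralizer_le_normalizer _ (by rintro _ ⟨i, rfl⟩; exact ((h.z_cent ht).zpow_left i).eq)

theorem se_N (g x : G) (hx : x ∈ normalizer (zpowers z : Set G)) (h1 : x ≠ 1) (h2 : x ^ p = 1)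
    (hg : g * x * g⁻¹ ∈ normalizer (zpowers z : Set G)) : g ∈ normalizer (zpowers z : Set G) := by
  have hs := h.syl.of_le h.le_N le_top
  obtain ⟨b, hb, e1⟩ := hs.exists_conj_le (zpowers_le.2 hx) (isPGroup_zpowers' (j := 1) (by simpa using h2))
  obtain ⟨c, hc, e2⟩ := hs.exists_conj_le (zpowers_le.2 hg)
    (isPGroup_zpowers' (j := 1) (by simp [conj_pow, h2]))
  have m1 := e1 x (mem_zpowers x)
  have m2 := e2 _ (mem_zpowers _)
  rw [show c * (g * x * g⁻¹) * c⁻¹ = c * g * b⁻¹ * (b * x * b⁻¹) * (c * g * b⁻¹)⁻¹ by group] at m2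
  suffices c * g * b⁻¹ ∈ normalizer (zpowers z : Set G) by
    simpa [mul_assoc] using mul_mem (mul_mem (inv_mem hc) this) hb
  have n1 : b * x * b⁻¹ ≠ 1 := mt conj_eq_one_iff.1 h1
  generalize c * g * b⁻¹ = k at *
  generalize b * x * b⁻¹ = y at *
  have key : k * z * k⁻¹ ∈ T := by
    by_cases hy : y ∈ zpowers z
    · obtain ⟨i, hi⟩ := mem_zpowers_of_mem h.z_pow hy n1
      rw [← show y ^ i = z from hi, ← conj_zpow]
      exact zpow_mem m2 i
    · have jb := h.jb_of_not_mem m2 (mt (h.conj_mem_iff m1 m2).1 hy)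
      have ab : ∀ t ∈ T, ∀ u ∈ T, Commute t u := fun t ht u hu => by
        obtain ⟨a, _, ⟨i, rfl⟩, rfl⟩ := h.gen t ht
        obtain ⟨b, _, ⟨j, rfl⟩, rfl⟩ := h.gen u hu
        have c1 : Commute s (s ^ b * z ^ j) := ((Commute.refl s).pow_right b).mul_right (h.comm.symm.zpow_right j)
        exact (c1.pow_left a).mul_left ((h.z_cent hu).zpow_left i)
      refine zpowers_le.1 (h.syl.le_of_le_normalizer le_top
        (isPGroup_zpowers' (j := 1) (by simp [conj_pow, h.z_pow])) fun t ht => centralizer_le_normalizer _ ?_)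
      rintro _ ⟨i, rfl⟩
      refine (Commute.zpow_left (h.inj ?_ : Commute _ t) i).eq
      rw [map_mul, map_mul (ρ) t]
      exact jb.commute_of_commute (((((h.z_cent m1).map (MulAut.conj k)).map ρ).sub_right (Commute.one_right _)))
        (((ab t ht _ m2).map ρ).sub_right (Commute.one_right _))
  refine mem_normalizer_fintype ?_
  rintro _ ⟨i, rfl⟩
  change k * z ^ i * k⁻¹ ∈ zpowers z
  rw [← conj_zpow]
  exact zpow_mem ((h.conj_mem_iff h.zT key).2 (mem_zpowers z)) i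

theorem s_not_mem : s ∉ zpowers z := fun e => by
  obtain ⟨d, -, h2, hd, -⟩ := h.exists_d
  have := h.jb.pow_eq_zero_iff.1 (h.pow_eq_zero_of_mem e)
  omega

theorem exists_dat : ∃ (s' z' : normalizer (zpowers z : Set G)), (s' : G) ∈ T ∧ (s' : G) ∉ zpowers z ∧ z' = z ∧
    Dat p _ s' z' := by
  let s₀ : normalizer (zpowers z : Set G) := ⟨s, h.le_N h.s_mem⟩
  let z₀ : normalizer (zpowers z : Set G) := ⟨z, h.le_N h.zT⟩
  have mz : ∀ x : normalizer (zpowers z : Set G), x ∈ zpowers z₀ ↔ (x : G) ∈ zpowers z := fun x =>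
    ⟨fun ⟨i, hi⟩ => ⟨i, congrArg Subtype.val hi⟩, fun ⟨i, hi⟩ => ⟨i, Subtype.ext hi⟩⟩
  have hs : s₀ ^ p = 1 := Subtype.ext h.s_pow
  have hz : z₀ ^ p = 1 := Subtype.ext h.z_pow
  have hz1 : z₀ ≠ 1 := fun e => h.z_ne (congrArg Subtype.val e)
  have hc : Commute s₀ z₀ := Subtype.ext h.comm.symm.eq
  obtain ⟨φ, hφ, φ1, φ2, hr⟩ := exists_hom_pair hs hz hc hz1 (mt (mz _).1 h.s_not_mem)
  have hT : φ.range = T.subgroupOf _ := by
    rw [hr]
    refine le_antisymm (sup_le (zpowers_le.2 h.s_mem) (zpowers_le.2 h.zT)) fun t ht => ?_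
    obtain ⟨a, u, hu, e⟩ := h.gen t ht
    rw [show t = s₀ ^ a * ⟨u, h.le_N (h.le hu)⟩ from Subtype.ext e]
    exact mul_mem (mem_sup_left (pow_mem (mem_zpowers _) _)) (mem_sup_right ((mz _).2 hu))
  obtain ⟨a, μ, ha, hμ, haz⟩ := exists_cocycle hz hz1 ⟨fun x hx g => (mz _).2 ((mem_normalizer_iff.1 g.2 x).1
    ((mz _).1 hx))⟩ φ.range (hT ▸ (h.syl.of_le h.le_N le_top).not_dvd_relIndex) ⟨_, φ2⟩
    (fun t ht => Subtype.ext (h.z_cent (hT.le ht)).symm.eq)
    ((AddMonoidHom.snd (ZMod p) (ZMod p)).toMultiplicative.comp (MonoidHom.ofInjective hφ).symm.toMonoidHom) (by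
      have : (MonoidHom.ofInjective hφ).symm ⟨z₀, _, φ2⟩ = Multiplicative.ofAdd (0, 1) :=
        (MulEquiv.symm_apply_eq _).2 (Subtype.ext φ2.symm)
      simp [this])
  have m1 : ∀ x, Commute x z₀ → μ x = 1 := fun x hx => by
    have := hμ x
    rw [hx.eq, mul_inv_cancel_right, eq_comm, ← pow_one z₀, ← pow_mul, pow_eq_pow_iff_modEq, orderOf_eq_prime hz hz1,
      one_mul, ← ZMod.natCast_eq_natCast_iff] at this
    simpa using this
  have a1 : ∀ i : ℕ, a (s₀ * z₀ ^ i) = a s₀ + i := fun i => by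
    induction i with
    | zero => simp
    | succ i ih =>
      rw [pow_succ, ← mul_assoc, ha, ih, m1 _ (hc.mul_left ((Commute.refl _).pow_left i)), haz]
      push_cast
      ring
  have n1 : s₀ * z₀ ^ (-a s₀).val ∉ zpowers z₀ := fun e => h.s_not_mem
    ((mz s₀).1 ((mul_mem_cancel_right (pow_mem (mem_zpowers _) _)).1 e))
  have hs' : (s₀ * z₀ ^ (-a s₀).val) ^ p = 1 := by
    rw [(hc.pow_right _).mul_pow, hs, ← pow_mul, mul_comm, pow_mul, hz, one_pow, one_mul]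
  obtain ⟨ψ, hψ, ψ1, ψ2, -⟩ := exists_hom_pair hs' hz (hc.mul_left ((Commute.refl _).pow_left _)) hz1 n1
  exact ⟨s₀ * z₀ ^ (-a s₀).val, z₀, mul_mem h.s_mem (pow_mem h.zT _), mt (mz _).2 n1, rfl, h.se_N, hs', hz, hz1,
    ⟨a, μ, ha, hμ, haz, by simp [a1]⟩, ψ, hψ, ψ1, ψ2⟩

theorem false_of_eq : False := by
  obtain ⟨s', z', hs, hs', e, hd⟩ := h.exists_dat
  have jb := h.jb_of_not_mem hs hs'
  obtain ⟨d, g, hd', hg, e1⟩ := jb.exists_pow_mul ((h.comm_Z hs).sub_right (Commute.one_right _)) h.Z_ne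
  have h2 : 2 ≤ d := by
    have := h.pow_eq_zero_of_mem (mem_zpowers z)
    rw [e1, (Commute.pow_left (semiconj_aeval (Commute.refl _) g) d).mul_pow, ((jb.isUnit_aeval hg).pow _).mul_left_eq_zero,
      ← pow_mul, jb.pow_eq_zero_iff] at this
    by_contra hlt
    have : d * (finrank (ZMod p) V - 1) ≤ 1 * (finrank (ZMod p) V - 1) := Nat.mul_le_mul_right _ (by omega)
    omega
  obtain ⟨l, rfl⟩ := Nat.exists_eq_add_of_le h2
  have hn := hd.nil _ V ρ (X ^ l * g) rfl jb.ker_le (by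
    rw [e, ← sub_add_cancel (ρ z) 1, e1, add_comm]
    simp [pow_add, mul_assoc])
  rw [e] at hn
  have hz := subset_normalClosure (Set.mem_singleton z)
  refine h.ne_top (top_le_iff.1 ((normalizer_eq_top _).ge.trans (h.normalizer_le (Q := normalClosure {z}) ?_
    (fun e0 => h.z_ne (mem_bot.1 (e0 ▸ hz))) (le_normalizer hz))))
  rintro ⟨x, hx⟩
  obtain ⟨j, hj⟩ := h.pow_eq_one_of_nil (hn x hx)
  exact ⟨j, Subtype.ext hj⟩

end Ctx

theorem Ctx.elim {V : Type*} [AddCommGroup V] [Module (ZMod p) V] {ρ : G →* Module.End (ZMod p) V}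
    {T T1 H : Subgroup G} {s z : G} [Finite G] [Module.Finite (ZMod p) V] (h : Ctx p ρ T T1 H s z) (h5 : 5 ≤ p) :
    False := by
  obtain rfl := h.eq_zpowers h5
  exact h.false_of_eq

end CL.MCN
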