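import Cfsg.Agent.FUS.MC.PL3a
import Cfsg.Agent.FUS.MC.Ind
import Cfsg.Agent.FUS.MC.Deform

/-! # The case `|T| = p²`: the deformation argument -/

set_option autoImplicit false

namespace CL.MCN

open Subgroup Module LinearMap Polynomial

theorem Jb.scalar {k G V : Type*} [Field k] [Group G] [AddCommGroup V] [Module k V] [Module.Finite k V] [Nontrivial V]
    {ρ : G →* Module.End k V} {s : G} (h : Jb (ρ s - 1))
    (irr : ∀ W : Submodule k V, (∀ g, W ≤ W.comap (ρ g)) → W = ⊥ ∨ W = ⊤) {φ : Module.End k V}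
    (hφ : ∀ g, Commute φ (ρ g)) : ∃ c : k, φ = c • 1 := by
  obtain ⟨f, hf⟩ := h.exists_poly ((hφ s).sub_right (Commute.one_right _))
  have e : φ - f.coeff 0 • 1 = aeval (ρ s - 1) f.divX * (ρ s - 1) := by
    conv_lhs => rw [hf, ← divX_mul_X_add f]
    simp [Algebra.algebraMap_eq_smul_one]
  refine ⟨f.coeff 0, sub_eq_zero.1 (ker_eq_top.1 ((irr _ fun g v hv => ?_).resolve_left fun e0 => ?_))⟩
  · rw [Submodule.mem_comap, mem_ker, ← Module.End.mul_apply,
      ((hφ g).sub_left ((Commute.one_left _).smul_left _)).eq, Module.End.mul_apply, mem_ker.1 hv, map_zero]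
  · have hn : IsNilpotent (φ - f.coeff 0 • 1) :=
      e ▸ Commute.isNilpotent_mul_left (Commute.symm (semiconj_aeval (Commute.refl _) _)) h.nil
    exact hn.not_isUnit ((Module.End.isUnit_iff _).2 ⟨ker_eq_bot.1 e0, injective_iff_surjective.1 (ker_eq_bot.1 e0)⟩)

set_option backward.isDefEq.respectTransparency false in
theorem Jb.lift_surjective {k G V : Type*} [Field k] [Group G] [AddCommGroup V] [Module k V] [Module.Finite k V]
    [Nontrivial V] {ρ : Representation k G V} {s : G} (h : Jb (ρ s - 1))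
    (irr : ∀ W : Submodule k V, (∀ g, W ≤ W.comap (ρ g)) → W = ⊥ ∨ W = ⊤) :
    Function.Surjective (MonoidAlgebra.lift k (Module.End k V) G ρ) := by
  have : ρ.IsIrreducible :=
    { exists_pair_ne := ⟨⊥, ⊤, fun e => bot_ne_top (congrArg Subrepresentation.toSubmodule e)⟩
      eq_bot_or_eq_top := fun W => (irr W.toSubmodule fun g _ hv => W.apply_mem_toSubmodule g hv).imp
        (fun e => Subrepresentation.toSubmodule_injective e) fun e => Subrepresentation.toSubmodule_injective e }
  have : Module.Finite (Module.End (MonoidAlgebra k G) ρ.asModule) ρ.asModule :=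
    Module.Finite.of_restrictScalars_finite k _ _
  intro φ
  let f : Module.End (Module.End (MonoidAlgebra k G) ρ.asModule) ρ.asModule :=
    { toFun := fun v => ρ.asModuleEquiv.symm (φ (ρ.asModuleEquiv v))
      map_add' := fun v w => by simp
      map_smul' := fun e v => by
        obtain ⟨c, hc⟩ := h.scalar irr (φ := ρ.asModuleEquiv.conj (e.restrictScalars k)) fun g => by
          ext u
          have := congrArg ρ.asModuleEquiv (e.map_smul (MonoidAlgebra.of k G g) (ρ.asModuleEquiv.symm u))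
          rw [ρ.asModuleEquiv_map_smul, ρ.asAlgebraHom_of, ← ρ.asModuleEquiv_symm_map_rho] at this
          exact this
        have key : ∀ u, e u = c • u := fun u => by
          have := congrArg ρ.asModuleEquiv.symm (LinearMap.congr_fun hc (ρ.asModuleEquiv u))
          simpa using this
        simp [key] }
  obtain ⟨r, hr⟩ := Module.Finite.toModuleEnd_moduleEnd_surjective (R := MonoidAlgebra k G) (M := ρ.asModule) f
  refine ⟨r, LinearMap.ext fun v => ?_⟩
  have := congrArg ρ.asModuleEquiv (LinearMap.congr_fun hr (ρ.asModuleEquiv.symm v))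
  simpa [f, Representation.asAlgebraHom_def] using this

theorem comp_aeval_eq {k V W : Type*} [Field k] [AddCommGroup V] [Module k V] [AddCommGroup W] [Module k W]
    {φ : V →ₗ[k] W} {x : Module.End k V} {y : Module.End k W} (h : ∀ v, φ (x v) = y (φ v)) (f : k[X]) (v : V) :
    φ (aeval x f v) = aeval y f (φ v) := by
  induction f using Polynomial.induction_on' with
  | add f g hf hg => simp [hf, hg]
  | monomial n a =>
    simp only [aeval_monomial, Module.End.mul_apply, Module.algebraMap_end_apply, map_smul]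
    congr 1
    induction n with
    | zero => rfl
    | succ n ih => rw [pow_succ', pow_succ', Module.End.mul_apply, Module.End.mul_apply, h, ih]

/-- the group-theoretic data of the deformation argument -/
structure Dat (p : ℕ) {G : Type*} [Group G] (H : Subgroup G) (s z : H) : Prop where
  se : ∀ g x, x ∈ H → x ≠ 1 → x ^ p = 1 → g * x * g⁻¹ ∈ H → g ∈ H
  s_pow : s ^ p = 1
  z_pow : z ^ p = 1
  z_ne : z ≠ 1
  coc : ∃ a μ : H → ZMod p, (∀ g h, a (g * h) = a g + μ g * a h) ∧ (∀ h, h * z * h⁻¹ = z ^ (μ h).val) ∧ a z = 1 ∧ a s = 0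
  hom : ∃ φ : Multiplicative (ZMod p × ZMod p) →* H, Function.Injective φ ∧ φ (Multiplicative.ofAdd (1, 0)) = s ∧
    φ (Multiplicative.ofAdd (0, 1)) = z

namespace Dat
variable {p : ℕ} [hp : Fact p.Prime] {G : Type*} [Group G] [Finite G] {H : Subgroup G} {s z : H} (h : Dat p H s z)
include h

theorem matrix {n : Type*} [Fintype n] [DecidableEq n] (ρ : G →* Matrix n n (ZMod p))
    (hρ : Function.Surjective (MonoidAlgebra.lift (ZMod p) (Matrix n n (ZMod p)) G ρ)) {f : (ZMod p)[X]}
    (hZ : ρ z = aeval (ρ s - 1) (1 + X ^ 2 * f)) : ρ z = 1 := by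
  obtain ⟨a, μ, ha, hμ, haz, has⟩ := h.coc
  obtain ⟨φ, hφ, φ1, φ2⟩ := h.hom
  obtain ⟨σ, h0, h1, h2, w, h3, h4⟩ := exists_deform (ρ.comp H.subtype) h.z_pow h.z_ne a μ ha hμ haz
  let ι : Matrix n n (ZMod p) →ₐ[ZMod p] Matrix n n (ZMod p)[X] := (CAlgHom : ZMod p →ₐ[ZMod p] (ZMod p)[X]).mapMatrix
  have e1 : σ s - 1 = ι (ρ s - 1) := by rw [h1 s has, map_sub, map_one]; rfl
  have e2 : ι (ρ z) = aeval (σ s - 1) (1 + X ^ 2 * f) := by rw [e1, aeval_algHom_apply, hZ]
  have c1 : Commute (σ s - 1) (ι (ρ z)) := e2 ▸ semiconj_aeval (Commute.refl _) _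
  have hA := norm_kill (p := p) (D := σ s - 1) (u := aeval (σ s - 1) f * w)
    (by simpa [← map_pow, h.s_pow] using sub_one_pow (p := p) (σ s) 1)
    ((Commute.symm (semiconj_aeval (Commute.refl _) f)).mul_left (h4 _ c1).symm) (σ.comp φ)
    (by rw [MonoidHom.comp_apply, φ1, add_sub_cancel]) (by
      rw [MonoidHom.comp_apply, φ2, h3, ← mul_assoc]
      congr 2
      change ι (ρ z - 1) = _
      rw [map_sub, map_one, e2]
      simp)
  have key := ind_kill H ρ hρ σ h0 h.se φ hφ hA
    (x := MonoidAlgebra.of _ _ z - aeval (MonoidAlgebra.of (ZMod p) H s - 1) (1 + X ^ 2 * f)) (by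
      rw [map_sub, ← aeval_algHom_apply, map_sub, map_one, MonoidAlgebra.lift_of, MonoidAlgebra.lift_of, sub_eq_zero]
      exact hZ)
  rw [map_sub, ← aeval_algHom_apply, map_sub, map_one, MonoidAlgebra.lift_of, MonoidAlgebra.lift_of, sub_eq_zero,
    ← e2] at key
  rw [← h2, key]
  ext i j
  simp [ι]

theorem irr {V : Type*} [AddCommGroup V] [Module (ZMod p) V] [Module.Finite (ZMod p) V]
    (ρ : G →* Module.End (ZMod p) V) (hρ : Function.Surjective (MonoidAlgebra.lift (ZMod p) (Module.End (ZMod p) V) G ρ))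
    {f : (ZMod p)[X]} (hZ : ρ z = aeval (ρ s - 1) (1 + X ^ 2 * f)) : ρ z = 1 := by
  obtain ⟨e⟩ : Nonempty (Module.End (ZMod p) V ≃ₐ[ZMod p]
    Matrix (Fin (finrank (ZMod p) V)) (Fin (finrank (ZMod p) V)) (ZMod p)) :=
      ⟨LinearMap.toMatrixAlgEquiv (Module.finBasis (ZMod p) V)⟩
  have e1 : MonoidAlgebra.lift (ZMod p) _ G (e.toAlgHom.toMonoidHom.comp ρ) =
      e.toAlgHom.comp (MonoidAlgebra.lift (ZMod p) _ G ρ) := (MonoidAlgebra.lift _ _ G).symm.injective (by ext; simp)
  have h1 := h.matrix (e.toAlgHom.toMonoidHom.comp ρ) (f := f) (e1 ▸ e.surjective.comp hρ) (by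
    change e (ρ z) = aeval (e (ρ s) - 1) _
    rw [hZ, ← aeval_algHom_apply e, map_sub, map_one])
  exact e.injective (h1.trans (map_one e).symm)

universe v

theorem nil : ∀ (m : ℕ) (V : Type v) [AddCommGroup V] [Module (ZMod p) V] [Module.Finite (ZMod p) V]
    (ρ : Representation (ZMod p) G V) (f : (ZMod p)[X]), finrank (ZMod p) V = m →
    finrank (ZMod p) (ker (ρ s - 1)) ≤ 1 → ρ z = aeval (ρ s - 1) (1 + X ^ 2 * f) →
    ∀ g ∈ normalClosure {(z : G)}, IsNilpotent (ρ g - 1) := by
  intro m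
  induction m using Nat.strong_induction_on with
  | _ m ih =>
  intro V _ _ _ ρ f hm hk hZ g hg
  rcases subsingleton_or_nontrivial V with _ | _
  · exact ⟨0, Subsingleton.elim _ _⟩
  by_cases irr : ∀ W : Submodule (ZMod p) V, (∀ g, W ≤ W.comap (ρ g)) → W = ⊥ ∨ W = ⊤
  · have jb : Jb (ρ s - 1) := ⟨⟨p, by
      simpa [← map_pow, ← Subgroup.coe_pow, h.s_pow] using sub_one_pow (p := p) (ρ s) 1⟩, hk⟩
    have h2 : normalClosure {(z : G)} ≤ MonoidHom.ker ρ := normalClosure_le_normal
      (Set.singleton_subset_iff.2 (h.irr ρ (jb.lift_surjective irr) hZ))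
    rw [MonoidHom.mem_ker.1 (h2 hg), sub_self]
    exact IsNilpotent.zero
  push Not at irr
  obtain ⟨W, hW, h0, h1⟩ := irr
  have r := W.finrank_quotient_add_finrank
  have r1 := Submodule.finrank_lt h1
  have r0 : 0 < finrank (ZMod p) W := Nat.pos_of_ne_zero (mt Submodule.finrank_eq_zero.1 h0)
  obtain ⟨a, ha⟩ := ih _ (hm ▸ r1) W (ρ.subrepresentation W hW) f rfl (by
    refine le_trans ?_ hk
    rw [← Submodule.finrank_map_subtype_eq]
    refine Submodule.finrank_mono ?_
    rintro _ ⟨v, hv, rfl⟩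
    exact congrArg Subtype.val (mem_ker.1 hv)) (LinearMap.ext fun v => Subtype.ext (by
      have := comp_aeval_eq (φ := W.subtype) (y := ρ s - 1) (x := ρ.subrepresentation W hW s - 1) (fun _ => rfl)
        (1 + X ^ 2 * f) v
      rw [← hZ] at this
      exact this.symm)) g hg
  obtain ⟨b, hb⟩ := ih _ (show finrank (ZMod p) (V ⧸ W) < m by omega) (V ⧸ W) (ρ.quotient W hW) f rfl (by
    have k1 := (ρ s - 1).finrank_range_add_finrank_ker
    have k2 := (ρ.quotient W hW s - 1).finrank_range_add_finrank_ker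
    have k3 := (range (ρ s - 1)).finrank_quotient_add_finrank
    have k4 := (range (ρ.quotient W hW s - 1)).finrank_quotient_add_finrank
    have k5 := LinearMap.finrank_le_finrank_of_surjective (f := (range (ρ s - 1)).mapQ
      (range (ρ.quotient W hW s - 1)) W.mkQ (by rintro _ ⟨v, rfl⟩; exact ⟨W.mkQ v, rfl⟩)) (fun x => by
        obtain ⟨x, rfl⟩ := Submodule.mkQ_surjective _ x
        obtain ⟨x, rfl⟩ := W.mkQ_surjective x
        exact ⟨Submodule.mkQ _ x, rfl⟩)
    omega) (LinearMap.ext fun v => by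
      obtain ⟨v, rfl⟩ := W.mkQ_surjective v
      have := comp_aeval_eq (φ := W.mkQ) (x := ρ s - 1) (y := ρ.quotient W hW s - 1) (fun _ => rfl) (1 + X ^ 2 * f) v
      rw [← hZ] at this
      exact this) g hg
  refine ⟨a + b, LinearMap.ext fun v => ?_⟩
  have k1 : ((ρ g - 1) ^ b) v ∈ W := by
    have := comp_aeval_eq (φ := W.mkQ) (x := ρ g - 1) (y := ρ.quotient W hW g - 1) (fun _ => rfl) (X ^ b) v
    rw [map_pow, map_pow, aeval_X, aeval_X, hb] at this
    exact (Submodule.Quotient.mk_eq_zero W).1 this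
  have := comp_aeval_eq (φ := W.subtype) (y := ρ g - 1) (x := ρ.subrepresentation W hW g - 1) (fun _ => rfl) (X ^ a)
    ⟨_, k1⟩
  rw [map_pow, map_pow, aeval_X, aeval_X, ha] at this
  rw [pow_add, Module.End.mul_apply]
  exact this.symm

end Dat

end CL.MCN
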