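import Cfsg.Agent.FUS.MC.Quad3

/-! # Basic consequences of `Ctx` -/

set_option autoImplicit false

namespace CL.MCN

open Subgroup CL.Fus Module LinearMap Polynomial

theorem semiconj_aeval {k R : Type*} [CommRing k] [Ring R] [Algebra k R] {u x y : R} (h : SemiconjBy u x y) (f : k[X]) :
    SemiconjBy u (aeval x f) (aeval y f) := by
  induction f using Polynomial.induction_on' with
  | add f g hf hg => rw [map_add, map_add]; exact hf.add_right hg
  | monomial n a =>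
    rw [aeval_monomial, aeval_monomial]
    exact SemiconjBy.mul_right (Algebra.commutes a u).symm (h.pow_right n)

theorem comp_sub {k : Type*} [CommRing k] (l : ℕ) (g r : k[X]) : ∃ q : k[X],
    (X ^ (l + 1) * g).comp (X + X ^ (l + 1) * r) = X ^ (l + 1) * g + X ^ (2 * l + 1) * q ∧
      q.coeff 0 = (l + 1 : ℕ) * g.coeff 0 * r.coeff 0 := by
  obtain ⟨c, hc⟩ := binomExpansion ((X ^ (l + 1) * g).map C) X (X ^ (l + 1) * r)
  rw [derivative_map, eval_map, eval_map, eval_map, eval₂_C_X, eval₂_C_X] at hc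
  refine ⟨C (l + 1 : k) * g * r + X * (derivative g * r + c * r ^ 2), ?_, by simp⟩
  rw [Polynomial.comp, hc, derivative_mul, derivative_X_pow_succ]
  ring

namespace Ctx
variable {p : ℕ} [hp : Fact p.Prime] {G V : Type*} [Group G] [AddCommGroup V] [Module (ZMod p) V]
  {ρ : G →* Module.End (ZMod p) V} {T T1 H : Subgroup G} {s z : G} (h : Ctx p ρ T T1 H s z)
include h

theorem zT : z ∈ T := h.le h.z_mem

theorem Z_ne : ρ z - 1 ≠ 0 := fun e => h.z_ne (h.inj (by rwa [map_one, ← sub_eq_zero]))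

theorem comm_ZD : Commute (ρ z - 1) (ρ s - 1) :=
  ((h.comm.map ρ).sub_left (Commute.one_left _)).sub_right (Commute.one_right _)

theorem mem_range {t : G} (ht : t ∈ T) {j : ℕ} {v : V} (hv : v ∈ range ((ρ s - 1) ^ j)) :
    ρ t v ∈ range ((ρ s - 1) ^ j) := by
  simpa using add_mem (range_pow_succ_le _ _ (h.deg1 t ht j v hv)) hv

/-- the superdiagonal entry of an element of `T` -/
theorem exists_lam {t : G} (ht : t ∈ T) : ∃ c : ZMod p, (c = 0 → t ∈ T1) ∧ ∀ j, (ρ s - 1) ^ (j + 2) ≠ 0 →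
    ∀ v ∈ range ((ρ s - 1) ^ j), (ρ t - 1) v - c • (ρ s - 1) v ∈ range ((ρ s - 1) ^ (j + 2)) := by
  obtain ⟨a, u, hu, rfl⟩ := h.gen t ht
  refine ⟨a, fun e => ?_, fun j hj v hv => ?_⟩
  · obtain ⟨b, rfl⟩ := (ZMod.natCast_eq_zero_iff a p).1 e
    rwa [pow_mul, h.s_pow, one_pow, one_mul]
  · clear ht
    induction a with
    | zero => simpa using h.deg2 u hu j hj v hv
    | succ a ih =>
      have e : (ρ (s ^ (a + 1) * u) - 1) v - ((a + 1 : ℕ) : ZMod p) • (ρ s - 1) v =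
          (ρ s - 1) ((ρ (s ^ a * u) - 1) v) + ((ρ (s ^ a * u) - 1) v - (a : ZMod p) • (ρ s - 1) v) := by
        rw [pow_succ', mul_assoc, map_mul]
        simp only [LinearMap.sub_apply, Module.End.mul_apply, Module.End.one_apply, map_sub, Nat.cast_add, Nat.cast_one,
          add_smul, one_smul]
        abel
      rw [e]
      exact add_mem (apply_mem_range_pow (h.deg1 _ (mul_mem (pow_mem h.s_mem a) (h.le hu)) j v hv)) ih

theorem eq_zero_of_smul {j : ℕ} (hj : (ρ s - 1) ^ (j + 2) ≠ 0) {c : ZMod p}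
    (hc : ∀ v ∈ range ((ρ s - 1) ^ j), c • (ρ s - 1) v ∈ range ((ρ s - 1) ^ (j + 2))) : c = 0 := by
  by_contra h0
  refine hj ?_
  rw [pow_succ, h.jb.eq_bot_of_le (j := j + 1) ?_, zero_mul]
  rintro _ ⟨v, rfl⟩
  rw [pow_succ' _ j, Module.End.mul_apply]
  exact (Submodule.smul_mem_iff _ h0).1 (hc _ ⟨v, rfl⟩)

/-- consecutive diagonal entries of an element normalizing `T` -/
theorem ratio {k : G} (hk : k * s * k⁻¹ ∈ T) : ∃ c : ZMod p, ∀ j, (ρ s - 1) ^ (j + 2) ≠ 0 → ∀ μ μ' : ZMod p,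
    (∀ v ∈ range ((ρ s - 1) ^ j), ρ k v - μ • v ∈ range ((ρ s - 1) ^ (j + 1))) →
    (∀ v ∈ range ((ρ s - 1) ^ (j + 1)), ρ k v - μ' • v ∈ range ((ρ s - 1) ^ (j + 2))) → μ' = c * μ := by
  obtain ⟨c, -, hc⟩ := h.exists_lam hk
  refine ⟨c, fun j hj μ μ' h1 h2 => sub_eq_zero.1 (h.eq_zero_of_smul hj fun v hv => ?_)⟩
  have e : ρ k ((ρ s - 1) v) = (ρ (k * s * k⁻¹) - 1) (ρ k v) := by
    rw [← Module.End.mul_apply, ← Module.End.mul_apply, mul_sub, sub_mul, ← map_mul, ← map_mul, inv_mul_cancel_right,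
      mul_one, one_mul]
  have k1 := h2 _ (apply_mem_range_pow hv)
  have k2 := h.deg1 _ hk _ _ (h1 v hv)
  have k3 := Submodule.smul_mem _ μ (hc j hj v hv)
  rw [e] at k1
  convert sub_mem (add_mem k2 k3) k1 using 1
  rw [map_sub, map_smul]
  module

variable [Finite G]

theorem z_cent {t : G} (ht : t ∈ T) : Commute z t := by
  obtain ⟨y, hy, hy1, hc⟩ := exists_cent h.syl.isPGroup h.le (fun e => h.z_ne (mem_bot.1 (e ▸ h.z_mem))) h.conj
  obtain ⟨i, hi⟩ := mem_zpowers_of_mem h.z_pow (h.cent y hy (hc s h.s_mem)) hy1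
  exact hi ▸ (hc t ht).zpow_left i

theorem comm_Z {t : G} (ht : t ∈ T) : Commute (ρ z - 1) (ρ t) := ((h.z_cent ht).map ρ).sub_left (Commute.one_left _)

omit [Finite G] in
theorem mem_H_of_conj {g : G} (hg : g * z * g⁻¹ ∈ H) : g ∈ H := h.se g z (h.le_H h.zT) h.z_ne h.z_pow hg

theorem normalizer_le {Q : Subgroup G} (hQ : IsPGroup p Q) (h0 : Q ≠ ⊥) (hz : z ∈ normalizer (Q : Set G)) :
    normalizer (Q : Set G) ≤ H := fun n hn => by
  obtain ⟨b, -, hb⟩ := h.syl.exists_conj_le le_top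
    ((isPGroup_zpowers' (j := 1) (by simpa using h.z_pow)).to_sup_of_normal_right' hQ (zpowers_le.2 hz))
  have hbH := h.mem_H_of_conj (h.le_H (hb z (mem_sup_left (mem_zpowers z))))
  have hQH : Q ≤ H := fun x hx => by
    simpa [mul_assoc] using mul_mem (mul_mem (inv_mem hbH) (h.le_H (hb x (mem_sup_right hx)))) hbH
  obtain ⟨x, hx, ho⟩ := CL.PN.exists_orderOf_eq_prime hQ h0
  exact h.se n x (hQH hx) (fun e => hp.out.one_lt.ne (by rw [← ho, e, orderOf_one])) (ho ▸ pow_orderOf_eq_one x)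
    (hQH ((mem_normalizer_iff.1 hn x).1 hx))

theorem exists_y (hne : T1 ≠ zpowers z) : ∃ y ∈ T1, y ∉ zpowers z ∧ ∃ e : ℕ, ¬ p ∣ e ∧ y * s * y⁻¹ = z ^ e * s := by
  obtain ⟨y, hy, hy', hc⟩ := exists_rel_cent h.syl.isPGroup h.le (lt_of_le_of_ne (zpowers_le.2 h.z_mem) hne.symm) h.conj
    fun t ht x hx => by
      obtain ⟨i, rfl⟩ := hx
      rw [← ((h.z_cent ht).zpow_left i).eq, mul_inv_cancel_right]
      exact ⟨i, rfl⟩
  obtain ⟨e, he⟩ := mem_powers_iff_mem_zpowers.2 (hc s h.s_mem)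
  refine ⟨y, hy, hy', e, ?_, by rw [show z ^ e = _ from he, inv_mul_cancel_right]⟩
  rintro ⟨b, rfl⟩
  simp only [pow_mul, h.z_pow, one_pow] at he
  exact hy' (h.cent y hy (commutatorElement_eq_one_iff_commute.1 he.symm))

variable [Module.Finite (ZMod p) V]

omit [Finite G] in
theorem exists_d : ∃ (d : ℕ) (g : (ZMod p)[X]), 2 ≤ d ∧ d < finrank (ZMod p) V ∧ g.coeff 0 ≠ 0 ∧
    ρ z - 1 = (ρ s - 1) ^ d * aeval (ρ s - 1) g ∧ range (ρ z - 1) = range ((ρ s - 1) ^ d) ∧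
      ker (ρ z - 1) = range ((ρ s - 1) ^ (finrank (ZMod p) V - d)) := by
  obtain ⟨d, g, hd, hg, e⟩ := h.jb.exists_pow_mul h.comm_ZD h.Z_ne
  have hu := (Module.End.isUnit_iff _).1 (h.jb.isUnit_aeval hg)
  have h1 : range (ρ z - 1) = range ((ρ s - 1) ^ d) := by
    rw [e, Module.End.mul_eq_comp, range_comp_of_range_eq_top _ (range_eq_top.2 hu.2)]
  have h2 : range ((ρ s - 1) ^ d) ≤ range ((ρ s - 1) ^ 2) := by
    rw [← h1]
    rintro _ ⟨v, rfl⟩
    exact h.degz v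
  have h3 := Submodule.finrank_mono h2
  rw [h.jb.finrank_range_pow, h.jb.finrank_range_pow] at h3
  refine ⟨d, g, by omega, hd, hg, e, h1, ?_⟩
  rw [e, (Commute.pow_left (semiconj_aeval (Commute.refl (ρ s - 1)) g) d).eq, Module.End.mul_eq_comp,
    ker_comp_of_ker_eq_bot _ (ker_eq_bot.2 hu.1), h.jb.ker_pow (Nat.add_sub_cancel' hd.le)]

/-- `z` is quadratic with `[V, z] < C_V(z)` -/
theorem le_two_mul (hne : T1 ≠ zpowers z) {d : ℕ} {g : (ZMod p)[X]} (h2 : 2 ≤ d) (hd : d < finrank (ZMod p) V)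
    (hg : g.coeff 0 ≠ 0) (e : ρ z - 1 = (ρ s - 1) ^ d * aeval (ρ s - 1) g) : finrank (ZMod p) V + 1 ≤ 2 * d := by
  obtain ⟨y, hy, -, a, ha, hc⟩ := h.exists_y hne
  obtain ⟨l, rfl⟩ : ∃ l, d = l + 1 := ⟨d - 1, by omega⟩
  obtain ⟨q, hq, hq0⟩ := comp_sub l g (g * (∑ i ∈ Finset.range a, (1 + X ^ (l + 1) * g) ^ i) * (1 + X))
  have e1 : aeval (ρ s - 1) (X ^ (l + 1) * g) = ρ z - 1 := by simp [e]
  have e2 : aeval (ρ s - 1) (1 + X ^ (l + 1) * g) = ρ z := by rw [map_add, e1, map_one, add_sub_cancel]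
  have e3 : aeval (ρ s - 1) (X + X ^ (l + 1) * (g * (∑ i ∈ Finset.range a, (1 + X ^ (l + 1) * g) ^ i) * (1 + X))) =
      ρ (y * s * y⁻¹) - 1 := by
    rw [← mul_assoc, ← mul_assoc, map_add, map_mul, map_mul, e1, map_sum, hc]
    simp only [map_pow, e2, mul_geom_sum, map_add, map_one, aeval_X, map_mul]
    noncomm_ring
  have e4 : SemiconjBy (ρ y) (ρ s - 1) (ρ (y * s * y⁻¹) - 1) := by
    rw [SemiconjBy, mul_sub, sub_mul, ← map_mul, ← map_mul, inv_mul_cancel_right, mul_one, one_mul]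
  have e5 := (semiconj_aeval e4 (X ^ (l + 1) * g)).eq
  rw [← e3, ← aeval_comp, hq, map_add, e1, ← (h.comm_Z (h.le hy)).eq, add_mul, left_eq_add,
    (Group.isUnit y).map ρ |>.mul_left_eq_zero, map_mul, map_pow, aeval_X,
    (h.jb.isUnit_aeval ?_).mul_left_eq_zero, h.jb.pow_eq_zero_iff] at e5
  · omega
  · rw [hq0]
    have := h.finrank_le
    have n1 : ((l + 1 : ℕ) : ZMod p) ≠ 0 := fun e => by
      have := Nat.le_of_dvd (by omega) ((ZMod.natCast_eq_zero_iff _ p).1 e)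
      omega
    refine mul_ne_zero (mul_ne_zero n1 hg) ?_
    simpa [coeff_zero_eq_eval_zero, eval_finsetSum, ZMod.natCast_eq_zero_iff, ha] using
      (coeff_zero_eq_eval_zero g ▸ hg)

end Ctx

end CL.MCN
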