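import Cfsg.Agent.FUS.MC.Defs

/-! # Groups generated by two quadratic elements -/

set_option autoImplicit false
set_option linter.unusedSimpArgs false

namespace CL.MCN

open Subgroup

variable {G R : Type*} [Group G] [Ring R]

/-- `x = α + β Z + γ Z' + δ Z Z'` and its adjugate `y`, with coefficients commuting with `Z` and `Z'` -/
def Form (Z Z' x y : R) : Prop :=
  ∃ a β γ δ : R, (Commute a Z ∧ Commute a Z') ∧ (Commute β Z ∧ Commute β Z') ∧ (Commute γ Z ∧ Commute γ Z') ∧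
    (Commute δ Z ∧ Commute δ Z') ∧ x = 1 + a * (Z * Z' + Z' * Z) + β * Z + γ * Z' + δ * (Z * Z') ∧
      y = 1 + a * (Z * Z' + Z' * Z) - β * Z - γ * Z' + δ * (Z' * Z)

section ring
variable {Z Z' : R} (hZ : Z * Z = 0) (hZ' : Z' * Z' = 0)

include hZ in
theorem mul_mul_zero (x : R) : Z * (Z * x) = 0 := by rw [← mul_assoc, hZ, zero_mul]

include hZ in
theorem comm_c : Commute (Z * Z' + Z' * Z) Z := by
  simp [Commute, SemiconjBy, mul_add, add_mul, mul_assoc, hZ, mul_mul_zero hZ]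

include hZ' in
theorem comm_c' : Commute (Z * Z' + Z' * Z) Z' := by
  rw [add_comm]
  exact comm_c hZ'

include hZ hZ' in
theorem Form.left {x y e : R} (h : Form Z Z' x y) (he : ∀ r, Commute e r) :
    Form Z Z' ((1 + e * Z) * x) (y * (1 - e * Z)) := by
  obtain ⟨a, β, γ, δ, ha, hβ, hγ, hδ, rfl, rfl⟩ := h
  have hα : Commute (1 + a * (Z * Z' + Z' * Z)) Z ∧ Commute (1 + a * (Z * Z' + Z' * Z)) Z' :=
    ⟨(Commute.one_left _).add_left (ha.1.mul_left (comm_c hZ)),
      (Commute.one_left _).add_left (ha.2.mul_left (comm_c' hZ'))⟩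
  refine ⟨a, β + e * (1 + a * (Z * Z' + Z' * Z)), γ, δ + e * γ, ha,
    ⟨hβ.1.add_left ((he _).mul_left hα.1), hβ.2.add_left ((he _).mul_left hα.2)⟩, hγ,
    ⟨hδ.1.add_left ((he _).mul_left hγ.1), hδ.2.add_left ((he _).mul_left hγ.2)⟩, ?_, ?_⟩
  · simp only [mul_add, add_mul, mul_assoc, one_mul, mul_one, ha.1.symm.left_comm, hβ.1.symm.left_comm,
      hγ.1.symm.left_comm, hδ.1.symm.left_comm, hZ, mul_mul_zero hZ, mul_zero]
    abel
  · simp only [mul_add, add_mul, mul_sub, sub_mul, mul_assoc, one_mul, mul_one, (he Z).symm.left_comm,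
      (he Z').symm.left_comm, (he a).symm.left_comm, (he β).symm.left_comm, (he γ).symm.left_comm,
      (he δ).symm.left_comm, hZ, mul_mul_zero hZ, mul_zero]
    abel

theorem Form.symm {x y : R} (h : Form Z Z' x y) : Form Z' Z x y := by
  obtain ⟨a, β, γ, δ, ha, hβ, hγ, hδ, rfl, rfl⟩ := h
  refine ⟨a + δ, γ, β, -δ, ⟨ha.2.add_left hδ.2, ha.1.add_left hδ.1⟩, hγ.symm, hβ.symm,
    ⟨hδ.2.neg_left, hδ.1.neg_left⟩, ?_, ?_⟩ <;> noncomm_ring

end ring

/-- two quadratic elements -/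
structure QP (ρ : G →* R) (z z' : G) (Z Z' : R) : Prop where
  ez : ρ z = 1 + Z
  ez' : ρ z' = 1 + Z'
  sq : Z * Z = 0
  sq' : Z' * Z' = 0

theorem rho_inv {ρ : G →* R} {z : G} {Z : R} (ez : ρ z = 1 + Z) (sq : Z * Z = 0) : ρ z⁻¹ = 1 - Z := by
  have : (1 + Z) * (1 - Z) = 1 := by rw [add_mul, mul_sub, mul_sub, sq]; simp
  rw [← ez] at this
  rw [← mul_one (ρ z⁻¹), ← this, ← mul_assoc, ← map_mul, inv_mul_cancel, map_one, one_mul, this]

theorem rho_pow {ρ : G →* R} {z : G} {Z : R} (ez : ρ z = 1 + Z) (sq : Z * Z = 0) (a : ℕ) :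
    ρ (z ^ a) = 1 + (a : R) * Z := by
  induction a with
  | zero => simp
  | succ a ih =>
    rw [pow_succ, map_mul, ih, ez]
    simp [mul_add, add_mul, mul_assoc, sq, add_assoc, add_comm]

namespace QP
variable {ρ : G →* R} {z z' : G} {Z Z' : R} (h : QP ρ z z' Z Z')
include h

theorem symm : QP ρ z' z Z' Z := ⟨h.ez', h.ez, h.sq', h.sq⟩

theorem form {x : G} (hx : x ∈ closure ({z, z'} : Set G)) : Form Z Z' (ρ x) (ρ x⁻¹) := by
  have i1 := rho_inv h.ez h.sq
  have i2 := rho_inv h.ez' h.sq'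
  induction hx using closure_induction_left with
  | one => exact ⟨0, 0, 0, 0, by simp, by simp, by simp, by simp, by simp, by simp⟩
  | mul_left x hx y _ ih =>
    rw [mul_inv_rev, map_mul, map_mul]
    rcases hx with rfl | rfl
    · simpa [h.ez, i1] using ih.left h.sq h.sq' Commute.one_left
    · simpa [h.ez', i2] using (ih.symm.left h.sq' h.sq Commute.one_left).symm
  | inv_mul_cancel x hx y _ ih =>
    rw [mul_inv_rev, inv_inv, map_mul, map_mul]
    rcases hx with rfl | rfl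
    · simpa [h.ez, i1, sub_eq_add_neg] using ih.left h.sq h.sq' Commute.neg_one_left
    · simpa [h.ez', i2, sub_eq_add_neg] using
        (ih.symm.left h.sq' h.sq Commute.neg_one_left).symm

theorem commute {b : R} (h1 : Commute b Z) (h2 : Commute b Z') {x : G} (hx : x ∈ closure ({z, z'} : Set G)) :
    Commute b (ρ x) := by
  induction hx using closure_induction with
  | mem x hx =>
    rcases hx with rfl | rfl
    · rw [h.ez]; exact (Commute.one_right _).add_right h1
    · rw [h.ez']; exact (Commute.one_right _).add_right h2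
  | one => simp
  | mul x y _ _ hx hy => rw [map_mul]; exact hx.mul_right hy
  | inv x _ hx => exact hx.units_inv_right (u := ρ.toHomUnits x)

theorem commute_c {x : G} (hx : x ∈ closure ({z, z'} : Set G)) : Commute (Z * Z' + Z' * Z) (ρ x) :=
  h.commute (comm_c h.sq) (comm_c' h.sq') hx

/-- Cayley–Hamilton -/
theorem sub_one_sq {x : G} (hx : x ∈ closure ({z, z'} : Set G)) :
    ∃ b, Commute (Z * Z' + Z' * Z) b ∧ (ρ x - 1) ^ 2 = (Z * Z' + Z' * Z) * b := by
  obtain ⟨a, β, γ, δ, ha, hβ, hγ, hδ, e1, e2⟩ := h.form hx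
  have hb : Commute (Z * Z' + Z' * Z) (a + a + δ) :=
    (((ha.1.add_left ha.1).add_left hδ.1).mul_right ((ha.2.add_left ha.2).add_left hδ.2)).symm.add_left
      (((ha.2.add_left ha.2).add_left hδ.2).mul_right ((ha.1.add_left ha.1).add_left hδ.1)).symm
  refine ⟨(a + a + δ) * ρ x, hb.mul_right (h.commute_c hx), ?_⟩
  have e3 : ρ x + ρ x⁻¹ - (1 + 1) = (a + a + δ) * (Z * Z' + Z' * Z) := by
    rw [e2]
    nth_rewrite 1 [e1]
    noncomm_ring
  have e4 : ρ x⁻¹ * ρ x = 1 := by rw [← map_mul, inv_mul_cancel, map_one]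
  rw [← mul_assoc, hb.eq, ← e3, sub_mul, add_mul, e4]
  noncomm_ring

/-- the square of an element normalizing `⟨z⟩` acts as a scalar on the image and the coimage of `Z` -/
theorem sq_act {x : G} (hx : x ∈ closure ({z, z'} : Set G)) {e : R} (he : ∀ r, Commute e r)
    (hn : ρ x * Z = e * (Z * ρ x)) :
    (Z * Z' + Z' * Z) * (ρ x * (ρ x * Z)) = e * ((Z * Z' + Z' * Z) * Z) ∧
      e * ((Z * Z' + Z' * Z) * (Z * ρ x * ρ x)) = (Z * Z' + Z' * Z) * Z := by
  obtain ⟨a, β, γ, δ, ha, hβ, hγ, hδ, e1, e2⟩ := h.form hx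
  have hc := h.commute_c hx
  have hα : Commute (1 + a * (Z * Z' + Z' * Z)) Z ∧ Commute (1 + a * (Z * Z' + Z' * Z)) Z' :=
    ⟨(Commute.one_left _).add_left (ha.1.mul_left (comm_c h.sq)),
      (Commute.one_left _).add_left (ha.2.mul_left (comm_c' h.sq'))⟩
  have hαx := h.commute hα.1 hα.2 hx
  have hαc : Commute (1 + a * (Z * Z' + Z' * Z)) (Z * Z' + Z' * Z) :=
    (hα.1.mul_right hα.2).add_right (hα.2.mul_right hα.1)
  have hZ := h.sq
  have hZ' := h.sq'
  have g0 : γ * (Z * (Z' * Z)) = 0 := by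
    have := congrArg (Z * ·) hn
    simp only [(he Z).symm.left_comm, mul_mul_zero hZ, mul_zero] at this
    rw [e1] at this
    simpa only [mul_add, add_mul, mul_assoc, one_mul, mul_one, ha.1.symm.left_comm, hβ.1.symm.left_comm,
      hγ.1.symm.left_comm, hδ.1.symm.left_comm, hZ, mul_mul_zero hZ, mul_zero, zero_add, add_zero] using this
  have g1 : γ * (Z * (Z' * (Z * Z'))) = 0 := by simpa only [mul_assoc, zero_mul] using congrArg (· * Z') g0
  have g2 : γ * (Z' * (Z * (Z' * Z))) = 0 := by rw [← hγ.2.symm.left_comm, g0, mul_zero]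
  generalize hA : 1 + a * (Z * Z' + Z' * Z) = α at *
  have k1 : (Z * Z' + Z' * Z) * (Z * ρ x) = α * ((Z * Z' + Z' * Z) * Z) := by
    rw [e1]
    simp only [mul_add, add_mul, mul_assoc, hα.1.symm.left_comm, hα.2.symm.left_comm, hα.1.symm.eq,
      hβ.1.symm.left_comm, hβ.2.symm.left_comm,
      hγ.1.symm.left_comm, hγ.2.symm.left_comm, hδ.1.symm.left_comm, hδ.2.symm.left_comm, hZ, mul_mul_zero hZ,
      mul_zero, zero_add, add_zero, g1]
  have k2 : ρ x⁻¹ * ((Z * Z' + Z' * Z) * Z) = α * ((Z * Z' + Z' * Z) * Z) := by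
    rw [e2]
    simp only [mul_add, add_mul, sub_mul, mul_assoc, hZ, mul_mul_zero hZ, mul_zero, zero_add, add_zero, g2, sub_zero]
  generalize Z * Z' + Z' * Z = c at *
  have k3 : ρ x * (c * Z) = e * (α * (c * Z)) := by rw [← hc.left_comm, hn, (he c).symm.left_comm, k1]
  have k4 : e * (α * (α * (c * Z))) = c * Z := by
    rw [← (he α).symm.left_comm, ← k3, hαx.left_comm, ← k2, ← mul_assoc, ← map_mul, mul_inv_cancel, map_one, one_mul]
  constructor
  · rw [hc.left_comm, hc.left_comm, k3, (he _).symm.left_comm, ← hαx.left_comm, k3, (he α).symm.left_comm, k4]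
  · rw [← mul_assoc c, k1, mul_assoc α, mul_assoc c, k1, k4]

end QP

end CL.MCN
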