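import Mathlib

/-! # Rigidity of an absolutely simple module under rank bounds for idempotents -/

set_option autoImplicit false

namespace CL.MCN

open Module LinearMap

/-- In a finite monoid `a ^ i = a ^ (i + l)` for some `i` and `l > 0`; take `N = (i + 1) * l`. -/
theorem exists_idem_pow {M : Type*} [Monoid M] [Finite M] (a : M) : ∃ N, 0 < N ∧ IsIdempotentElem (a ^ N) := by
  obtain ⟨i, j, hij, e⟩ : ∃ i j : ℕ, i < j ∧ a ^ i = a ^ j := by
    obtain ⟨i, j, hij, e⟩ := Finite.exists_ne_map_eq_of_infinite fun i : ℕ => a ^ i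
    rcases lt_or_gt_of_ne hij with h | h
    exacts [⟨i, j, h, e⟩, ⟨j, i, h, e.symm⟩]
  obtain ⟨l, rfl⟩ := Nat.exists_eq_add_of_lt hij
  have key : ∀ m, a ^ (i + m * (l + 1)) = a ^ i := fun m => by
    induction m with
    | zero => simp
    | succ m ih =>
      rw [show i + (m + 1) * (l + 1) = (i + m * (l + 1)) + (l + 1) by ring, pow_add, ih, ← pow_add, ← add_assoc, ← e]
  refine ⟨(i + 1) * (l + 1), by positivity, ?_⟩
  obtain ⟨c, hc⟩ : ∃ c, (i + 1) * (l + 1) = c + i := ⟨i * l + l + 1, by ring⟩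
  rw [IsIdempotentElem, ← pow_add]
  nth_rewrite 1 [hc]
  rw [add_assoc, pow_add, key, ← pow_add, ← hc]

/-- Lift the matrix units and compare the two modules through a primitive idempotent. -/
theorem rigid {k K Λ U n : Type*} [Field k] [Field K] [Algebra k K] [Ring Λ] [Algebra k Λ] [Finite Λ]
    [AddCommGroup U] [Module K U] [Module.Finite K U] [Fintype n] [DecidableEq n]
    (ρ : Λ →ₐ[k] Matrix n n k) (hρ : Function.Surjective ρ) (Γ : Λ →+* Module.End K U)
    (hΓ : ∀ c : k, Γ (algebraMap k Λ c) = algebraMap K _ (algebraMap k K c))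
    (hU : finrank K U = Fintype.card n)
    (h : ∀ e, IsIdempotentElem e → finrank K (range (Γ e)) ≤ (ρ e).rank) {x : Λ} (hx : ρ x = 0) : Γ x = 0 := by
  rcases isEmpty_or_nonempty n with hn | ⟨⟨o⟩⟩
  · rw [Fintype.card_eq_zero, finrank_zero_iff] at hU
    exact LinearMap.ext fun _ => Subsingleton.elim _ _
  have nil : ∀ y, ρ y = 0 → IsNilpotent (Γ y) := fun y hy => by
    obtain ⟨N, hN, e⟩ := exists_idem_pow y
    have := h _ e
    rw [map_pow ρ, hy, zero_pow hN.ne', Matrix.rank_zero, Nat.le_zero, Submodule.finrank_eq_zero,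
      range_eq_bot, map_pow] at this
    exact ⟨N, this⟩
  choose a ha using fun i j : n => hρ (Matrix.single i j 1)
  obtain ⟨N, hN, he⟩ := exists_idem_pow (a o o)
  set e := a o o ^ N with hedef
  have ρe : ρ e = Matrix.single o o 1 := by
    have : IsIdempotentElem (Matrix.single o o (1 : k)) := by
      rw [IsIdempotentElem, Matrix.single_mul_single_same, mul_one]
    obtain ⟨m, rfl⟩ := Nat.exists_eq_add_one_of_ne_zero hN.ne'
    rw [hedef, map_pow, ha, this.pow_succ_eq]
  have r1 : finrank K (range (Γ e)) ≤ 1 := by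
    refine (h e he).trans ?_
    rw [ρe, Matrix.single_eq_single_vecMulVec_single]
    exact Matrix.rank_vecMulVec_le _ _
  have e0 : range (Γ e) ≠ ⊥ := by
    intro e0
    have h1 := h _ he.one_sub
    rw [map_sub, map_one, range_eq_bot.1 e0, sub_zero, Module.End.one_eq_id, range_id, finrank_top, hU] at h1
    have h2 := (ρ (1 - e)).mulVecLin.finrank_range_add_finrank_ker
    have h3 : ker (ρ (1 - e)).mulVecLin ≠ ⊥ := by
      rw [Submodule.ne_bot_iff]
      refine ⟨Pi.single o 1, ?_, by simp⟩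
      rw [mem_ker, Matrix.mulVecLin_apply, map_sub, map_one, ρe, Matrix.sub_mulVec, Matrix.one_mulVec,
        Matrix.single_mulVec]
      ext i
      by_cases hi : i = o <;> simp [hi]
    rw [Ne, ← Submodule.finrank_eq_zero] at h3
    rw [Module.finrank_fintype_fun_eq_card] at h2
    rw [Matrix.rank] at h1
    omega
  obtain ⟨u₀, hu₀, u0⟩ := (Submodule.ne_bot_iff _).1 e0
  have eu : Γ e u₀ = u₀ := by
    obtain ⟨v, rfl⟩ := hu₀
    rw [← Module.End.mul_apply, ← map_mul, he.eq]
  obtain ⟨l₀, hl₀⟩ := Module.Projective.exists_dual_eq_one K u0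
  have hsp : range (Γ e) = K ∙ u₀ := by
    refine (Submodule.eq_of_le_of_finrank_le ((Submodule.span_singleton_le_iff_mem _ _).2 hu₀) ?_).symm
    rwa [finrank_span_singleton u0]
  let l : U →ₗ[K] K := l₀ ∘ₗ Γ e
  have hl : ∀ u, Γ e u = l u • u₀ := fun u => by
    obtain ⟨c, hc⟩ := Submodule.mem_span_singleton.1 (hsp.le ⟨u, rfl⟩)
    change _ = l₀ (Γ e u) • u₀
    rw [← hc, map_smul, hl₀, smul_eq_mul, mul_one]
  have key : ∀ y, l (Γ y u₀) = algebraMap k K (ρ y o o) := fun y => by
    have h1 : ρ (e * (y - algebraMap k Λ (ρ y o o)) * e) = 0 := by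
      rw [map_mul, map_mul, ρe, Matrix.single_mul_mul_single, map_sub, AlgHom.commutes]
      simp [Matrix.algebraMap_matrix_apply]
    have h2 : Γ (e * (y - algebraMap k Λ (ρ y o o)) * e) u₀ = (l (Γ y u₀) - algebraMap k K (ρ y o o)) • u₀ := by
      rw [map_mul, map_mul, Module.End.mul_apply, Module.End.mul_apply, eu, map_sub, hΓ, LinearMap.sub_apply,
        Module.algebraMap_end_apply, map_sub, map_smul, eu, hl, sub_smul]
    obtain ⟨m, hm⟩ := nil _ h1
    have h3 := Module.End.HasEigenvector.pow_apply ⟨Module.End.mem_eigenspace_iff.2 h2, u0⟩ m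
    rw [hm, LinearMap.zero_apply, eq_comm, smul_eq_zero_iff_left u0] at h3
    exact sub_eq_zero.1 (pow_eq_zero_iff'.1 h3).1
  let Pm : (n → K) →ₗ[K] U := ∑ j, (LinearMap.proj j).smulRight (Γ (a j o) u₀)
  let Qm : U →ₗ[K] (n → K) := LinearMap.pi fun i => l ∘ₗ Γ (a o i)
  have QP : ∀ y w i, Qm (Γ y (Pm w)) i = ∑ j, w j * algebraMap k K (ρ y i j) := fun y w i => by
    have : ∀ j, l (Γ (a o i) (Γ y (Γ (a j o) u₀))) = algebraMap k K (ρ y i j) := fun j => by
      rw [← Module.End.mul_apply, ← Module.End.mul_apply, ← map_mul, ← map_mul, key, map_mul, map_mul, ha, ha,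
        Matrix.single_mul_mul_single]
      simp
    simp [Pm, Qm, this]
  have QP1 : ∀ w, Qm (Pm w) = w := fun w => funext fun i => by
    have := QP 1 w i
    rw [map_one, map_one, Module.End.one_apply] at this
    rw [this, Finset.sum_eq_single i (fun j _ hj => by simp [Matrix.one_apply_ne hj.symm]) (by simp)]
    simp
  have hd : finrank K (n → K) = finrank K U := by rw [hU, Module.finrank_fintype_fun_eq_card]
  have Ps : Function.Surjective Pm :=
    (injective_iff_surjective_of_finrank_eq_finrank hd).1 (Function.LeftInverse.injective QP1)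
  have Qi : Function.Injective Qm :=
    (injective_iff_surjective_of_finrank_eq_finrank hd.symm).2 (Function.LeftInverse.surjective QP1)
  ext u
  obtain ⟨w, rfl⟩ := Ps u
  refine Qi (funext fun i => ?_)
  rw [QP, hx]
  simp

end CL.MCN
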