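import Cfsg.Agent.FUS.MC.Quad
import Cfsg.Agent.FUS.MC.Rig

/-! # Two quadratic elements in characteristic `p ≥ 5` -/

set_option autoImplicit false

namespace CL.MCN

open Subgroup CL.Fus

variable {p : ℕ} [hp : Fact p.Prime] {G R : Type*} [Group G] [Ring R] [Algebra (ZMod p) R]

theorem isUnit_natCast_of_not_dvd {m : ℕ} (h : ¬ p ∣ m) : IsUnit (m : R) := by
  have : IsUnit (m : ZMod p) := Ne.isUnit (by rwa [Ne, ZMod.natCast_eq_zero_iff])
  simpa using this.map (algebraMap (ZMod p) R)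

theorem nil_of_pow {ρ : G →* R} {x : G} {j : ℕ} (h : x ^ p ^ j = 1) : IsNilpotent (ρ x - 1) :=
  ⟨p ^ j, by rw [sub_one_pow (p := p), ← map_pow, h, map_one, sub_self]⟩

omit hp [Algebra (ZMod p) R] in
theorem sq_kill {Z Z' Y : R} (hY : Commute (Z * Z' + Z' * Z) Y) (h' : Commute (Z * Z' + Z' * Z) Z')
    (h1 : (Z * Z' + Z' * Z) * (Y * Z) = 0) (h2 : (Z * Z' + Z' * Z) * (Z * Y) = 0) :
    (Z * Z' + Z' * Z) * ((Z * Z' + Z' * Z) * (Y * Y)) = 0 := by
  have e : (Z * Z' + Z' * Z) * (Y * Y) = Y * Z * (Z' * Y) + Y * (Z' * (Z * Y)) := by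
    rw [hY.left_comm]
    noncomm_ring
  rw [e, mul_add, ← mul_assoc, h1, hY.left_comm, h'.left_comm, h2]
  simp

namespace QP
variable {ρ : G →* R} {z z' : G} {Z Z' : R} (h : QP ρ z z' Z Z')
include h

omit hp [Algebra (ZMod p) R] in
theorem sq_cent {x : G} (hx : x ∈ closure ({z, z'} : Set G)) (hc : Commute x z) :
    (Z * Z' + Z' * Z) * ((ρ x * ρ x - 1) * Z) = 0 ∧ (Z * Z' + Z' * Z) * (Z * (ρ x * ρ x - 1)) = 0 := by
  have : ρ x * Z = 1 * (Z * ρ x) := by
    have := (hc.map ρ).eq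
    rw [h.ez, mul_add, add_mul, mul_one, one_mul, add_right_inj] at this
    rw [this, one_mul]
  obtain ⟨h1, h2⟩ := h.sq_act hx Commute.one_left this
  rw [one_mul] at h1 h2
  exact ⟨by rw [sub_mul, mul_sub, mul_assoc (ρ x), h1, one_mul, sub_self],
    by rw [mul_sub, mul_sub, ← mul_assoc Z, h2, mul_one, sub_self]⟩

theorem cent_act (h2 : p ≠ 2) {x : G} (hx : x ∈ closure ({z, z'} : Set G)) (hc : Commute x z) {j : ℕ}
    (hj : x ^ p ^ j = 1) :
    (Z * Z' + Z' * Z) * ((ρ x - 1) * Z) = 0 ∧ (Z * Z' + Z' * Z) * (Z * (ρ x - 1)) = 0 := by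
  obtain ⟨h1, h3⟩ := h.sq_cent hx hc
  have hu : IsUnit (ρ x + 1) := by
    have : ρ x + 1 = (ρ x - 1) + ((2 : ℕ) : R) := by rw [Nat.cast_ofNat, ← one_add_one_eq_two]; abel
    rw [this]
    exact (nil_of_pow hj).isUnit_add_right_of_commute (isUnit_natCast_of_not_dvd (p := p) fun e =>
      h2 ((Nat.prime_dvd_prime_iff_eq hp.out Nat.prime_two).1 e)) (Nat.commute_cast _ _)
  have hc' : Commute (Z * Z' + Z' * Z) (ρ x + 1) := (h.commute_c hx).add_right (Commute.one_right _)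
  constructor
  · rw [← hu.mul_right_eq_zero, ← hc'.left_comm, ← h1]
    noncomm_ring
  · rw [← hu.mul_left_eq_zero, ← h3]
    noncomm_ring

theorem unip {N : ℕ} (hN : IsIdempotentElem ((Z * Z' + Z' * Z) ^ N)) {x : G}
    (hx : x ∈ closure ({z, z'} : Set G)) : ∃ j, (1 - (Z * Z' + Z' * Z) ^ N) * (ρ (x ^ p ^ j) - 1) = 0 := by
  obtain ⟨b, hb, e⟩ := h.sub_one_sq hx
  obtain ⟨l, hl⟩ := Nat.exists_eq_add_of_le (Nat.lt_pow_self (n := 2 * N) hp.out.one_lt).le
  refine ⟨2 * N, ?_⟩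
  rw [map_pow, ← sub_one_pow (p := p), hl, pow_add, pow_mul, e, hb.mul_pow, ← mul_assoc, ← mul_assoc, sub_mul,
    one_mul, hN.eq, sub_self, zero_mul, zero_mul]

omit hp [Algebra (ZMod p) R] in
theorem trace (a b : ℕ) :
    ρ (z ^ a * z' ^ b) + ρ (z ^ a * z' ^ b)⁻¹ = (1 + 1) + (a : R) * (b * (Z * Z' + Z' * Z)) := by
  have s1 : (a : R) * Z * (a * Z) = 0 := by rw [mul_assoc, (Nat.commute_cast Z a).left_comm, h.sq]; simp
  have s2 : (b : R) * Z' * (b * Z') = 0 := by rw [mul_assoc, (Nat.commute_cast Z' b).left_comm, h.sq']; simp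
  rw [mul_inv_rev, map_mul, map_mul, rho_inv (rho_pow h.ez h.sq a) s1, rho_inv (rho_pow h.ez' h.sq' b) s2,
    rho_pow h.ez h.sq, rho_pow h.ez' h.sq']
  simp only [mul_add, add_mul, mul_sub, sub_mul, mul_assoc, one_mul, mul_one, (Nat.commute_cast Z b).left_comm,
    (Nat.commute_cast Z' a).left_comm, (Nat.commute_cast (b : R) a).left_comm]
  abel

/-- if `z ^ a * z' ^ b` is conjugate in `⟨z, z'⟩` into the centralizer of `z`, then `a b c = -4` on the Fitting part -/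
theorem trace_eq {N : ℕ} (h0 : 0 < N) (hN : IsIdempotentElem ((Z * Z' + Z' * Z) ^ N)) {a b : ℕ} (ha : ¬ p ∣ a)
    (hb : ¬ p ∣ b) {m : G} (hm : m ∈ closure ({z, z'} : Set G)) (hc : Commute (m * (z ^ a * z' ^ b) * m⁻¹) z) :
    (Z * Z' + Z' * Z) ^ N * ((a : R) * (b * (Z * Z' + Z' * Z)) + (4 : ℕ)) = 0 := by
  have hy : z ^ a * z' ^ b ∈ closure ({z, z'} : Set G) :=
    mul_mem (pow_mem (subset_closure (by simp)) _) (pow_mem (subset_closure (by simp)) _)
  have hy' := mul_mem (mul_mem hm hy) (inv_mem hm)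
  obtain ⟨h1, h2⟩ := h.sq_cent hy' hc
  have h3 := sq_kill (((h.commute_c hy').mul_right (h.commute_c hy')).sub_right (Commute.one_right _))
    (comm_c' h.sq') h1 h2
  have tr := h.trace a b
  have c1 := h.commute_c hy
  have c2 := h.commute_c (inv_mem hy)
  have c3 := h.commute_c hm
  have c4 := h.commute_c (inv_mem hm)
  generalize z ^ a * z' ^ b = y at *
  generalize Z * Z' + Z' * Z = c at *
  have i1 : ρ m⁻¹ * ρ m = 1 := by rw [← map_mul, inv_mul_cancel, map_one]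
  have i2 : ρ m * ρ m⁻¹ = 1 := by rw [← map_mul, mul_inv_cancel, map_one]
  have i3 : ρ y⁻¹ * ρ y = 1 := by rw [← map_mul, inv_mul_cancel, map_one]
  have i4 : ρ y * ρ y⁻¹ = 1 := by rw [← map_mul, mul_inv_cancel, map_one]
  have e1 : ρ (m * y * m⁻¹) * ρ (m * y * m⁻¹) - 1 = ρ m * ((ρ y * ρ y - 1) * ρ m⁻¹) := by
    rw [sub_mul, mul_sub, one_mul, i2]
    simp only [← map_mul]
    congr 2
    group
  have e2 : c * (c * ((ρ y * ρ y - 1) * (ρ y * ρ y - 1))) = 0 := by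
    rw [e1] at h3
    have := congrArg (fun t => ρ m⁻¹ * t * ρ m) h3
    simp only [ mul_zero, zero_mul, mul_assoc, c4.symm.left_comm] at this
    simpa only [← mul_assoc (ρ m⁻¹), i1, one_mul, mul_one] using this
  have e3 : (ρ y * ρ y - 1) * (ρ y * ρ y - 1) * (ρ y⁻¹ * ρ y⁻¹) =
      (ρ y + ρ y⁻¹) * (ρ y + ρ y⁻¹) - (1 + 1 + 1 + 1) := by
    have i5 : ∀ t, ρ y * (ρ y⁻¹ * t) = t := fun t => by rw [← mul_assoc, i4, one_mul]
    simp only [mul_add, add_mul, mul_sub, sub_mul, mul_assoc, one_mul, mul_one, i3, i4, i5]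
    abel
  have e4 : c * (c * (c * ((a : R) * (b * ((a : R) * (b * c) + (4 : ℕ)))))) = 0 := by
    have := congrArg (· * (ρ y⁻¹ * ρ y⁻¹)) e2
    simp only [zero_mul, mul_assoc c] at this
    rw [e3, tr] at this
    rw [← this, show ((4 : ℕ) : R) = 1 + 1 + 1 + 1 by push_cast; norm_num]
    simp only [mul_add, add_mul, mul_assoc, one_mul, mul_one, (Nat.commute_cast c a).left_comm,
      (Nat.commute_cast c b).left_comm, (Nat.commute_cast c b).eq, mul_sub]
    abel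
  rw [(Nat.commute_cast c a).left_comm, (Nat.commute_cast c a).left_comm, (Nat.commute_cast c a).left_comm,
    (isUnit_natCast_of_not_dvd ha).mul_right_eq_zero, (Nat.commute_cast c b).left_comm,
    (Nat.commute_cast c b).left_comm, (Nat.commute_cast c b).left_comm,
    (isUnit_natCast_of_not_dvd hb).mul_right_eq_zero] at e4
  obtain ⟨l, hl⟩ := Nat.exists_eq_add_of_le' (show 3 ≤ N + N + (N + N) by omega)
  rw [← hN.eq, ← hN.eq, ← pow_add, ← pow_add, hl, pow_add, mul_assoc, pow_three, mul_assoc,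
    mul_assoc, e4, mul_zero]

end QP

omit [Algebra (ZMod p) R] in
theorem mem_zpowers_of_mem {z x : G} (hz : z ^ p = 1) (hx : x ∈ zpowers z) (h1 : x ≠ 1) : z ∈ zpowers x := by
  have hz1 : z ≠ 1 := by
    rintro rfl
    exact h1 (by simpa using hx)
  have ho := orderOf_eq_prime hz hz1
  have : Finite (zpowers z) := finite_zpowers.2 (orderOf_pos_iff.1 (ho ▸ hp.out.pos))
  have h2 := card_dvd_of_le (zpowers_le.2 hx)
  rw [Nat.card_zpowers z, ho] at h2
  rcases (Nat.dvd_prime hp.out).1 h2 with e | e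
  · exact absurd (zpowers_eq_bot.1 (card_eq_one.1 e)) h1
  · exact (eq_of_le_of_card_ge (zpowers_le.2 hx) (by rw [e, Nat.card_zpowers z, ho])).ge (mem_zpowers z)

omit [Algebra (ZMod p) R] in
theorem isPGroup_zpowers' {x : G} {j : ℕ} (h : x ^ p ^ j = 1) : IsPGroup p (zpowers x) := by
  rintro ⟨_, i, rfl⟩
  exact ⟨j, Subtype.ext (by
    change (x ^ i) ^ p ^ j = 1
    rw [← zpow_natCast, ← zpow_mul, mul_comm, zpow_mul, zpow_natCast, h, one_zpow])⟩

omit [Algebra (ZMod p) R] in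
theorem eq_one_of_not_dvd {M : Subgroup G} (hM : ¬ p ∣ Nat.card M) {x : G} (hx : x ∈ M) {j : ℕ} (h : x ^ p ^ j = 1) :
    x = 1 := by
  rw [← orderOf_eq_one_iff]
  exact Nat.Coprime.eq_one_of_dvd (((Nat.coprime_comm.1 ((Nat.Prime.coprime_iff_not_dvd hp.out).2 hM)).coprime_dvd_left
    (orderOf_dvd_natCard M hx)).pow_right j) (orderOf_dvd_of_pow_eq_one h)

omit [Algebra (ZMod p) R] in
/-- if `z` has order `p` and `M` is a normal `p'`-subgroup, every element of a coset `z ^ a M` commutes with a conjugate of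
`z`; here inside `X ∋ z` -/
theorem exists_conj_comm [Finite G] {z y : G} (hz : z ^ p = 1) {M : Subgroup G} [M.Normal] (hM : ¬ p ∣ Nat.card M)
    {X : Subgroup G} (hzX : z ∈ X) (hX : X ≤ zpowers z ⊔ M) (hy : y ∈ X) (hyM : ∀ r, ¬ p ∣ r → y ^ r ∉ M) :
    ∃ m ∈ X, Commute (m * y * m⁻¹) z := by
  obtain ⟨P, hP, hzP⟩ := exists_sylIn_ge (zpowers_le.2 hzX) (isPGroup_zpowers' (j := 1) (by simpa using hz))
  have hP' : P ≤ zpowers z := fun x hx => by
    have := hX (hP.le hx)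
    rw [← SetLike.mem_coe, mul_normal] at this
    obtain ⟨a, ha, b, hb, rfl⟩ := this
    have hbP : b ∈ P := by simpa using mul_mem (inv_mem (hzP ha)) hx
    obtain ⟨j, hj⟩ := hP.isPGroup ⟨b, hbP⟩
    simpa [eq_one_of_not_dvd hM hb (congrArg Subtype.val hj)] using ha
  obtain ⟨j, r, hr, e⟩ := Nat.exists_eq_pow_mul_and_not_dvd (orderOf_pos y).ne' p hp.out.ne_one
  obtain ⟨m, hm, h1⟩ := hP.exists_conj_le (zpowers_le.2 (pow_mem hy r))
    (isPGroup_zpowers' (j := j) (by rw [← pow_mul, mul_comm, ← e, pow_orderOf_eq_one]))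
  refine ⟨m, hm, ?_⟩
  obtain ⟨i, hi⟩ := mem_zpowers_of_mem hz (hP' (h1 _ (mem_zpowers _))) fun e1 =>
    hyM r hr (by rw [conj_eq_one_iff.1 e1]; exact one_mem _)
  rw [← hi, ← conj_pow]
  exact ((Commute.refl _).pow_right r).zpow_right i

/-- a quadratic element centralizes a normal `p'`-subgroup -/
theorem commute_of_coprime [Finite G] [Finite R] (h5 : 5 ≤ p) {ρ : G →* R} (hρ : Function.Injective ρ) {z : G} {Z : R}
    (ez : ρ z = 1 + Z) (sq : Z * Z = 0) (hz : z ^ p = 1) {M : Subgroup G} [hMn : M.Normal] (hM : ¬ p ∣ Nat.card M)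
    {n : G} (hn : n ∈ M) : Commute n z := by
  by_cases hz1 : z = 1
  · simp [hz1]
  have i1 : ∀ t, ρ n⁻¹ * (ρ n * t) = t := fun t => by rw [← mul_assoc, ← map_mul, inv_mul_cancel, map_one, one_mul]
  have h : QP ρ z (n * z * n⁻¹) Z (ρ n * Z * ρ n⁻¹) := ⟨ez, by
    rw [map_mul, map_mul, ez, mul_add, add_mul, mul_one, ← map_mul, mul_inv_cancel, map_one], sq, by
    simp only [mul_assoc, i1, mul_mul_zero sq, mul_zero]⟩
  generalize ρ n * Z * ρ n⁻¹ = Z' at h
  obtain ⟨N, h0, hN⟩ := exists_idem_pow (Z * Z' + Z' * Z)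
  have hq : (QuotientGroup.mk' M) (n * z * n⁻¹) = QuotientGroup.mk' M z := by
    simp [(QuotientGroup.eq_one_iff n).2 hn]
  have z1 : z ∈ closure ({z, n * z * n⁻¹} : Set G) := subset_closure (by simp)
  have z2 : n * z * n⁻¹ ∈ closure ({z, n * z * n⁻¹} : Set G) := subset_closure (by simp)
  have key : ∀ a b : ℕ, ¬ p ∣ a → ¬ p ∣ b → ¬ p ∣ a + b →
      (Z * Z' + Z' * Z) ^ N * ((a : R) * (b * (Z * Z' + Z' * Z)) + (4 : ℕ)) = 0 := fun a b ha hb hab => by
    obtain ⟨m, hm, hc⟩ := exists_conj_comm hz hM z1 ((closure_le _).2 (by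
      rintro _ (rfl | rfl)
      · exact mem_sup_left (mem_zpowers _)
      · exact mul_mem (mul_mem (mem_sup_right hn) (mem_sup_left (mem_zpowers _))) (mem_sup_right (inv_mem hn))))
      (mul_mem (pow_mem z1 a) (pow_mem z2 b)) fun r hr hm => by
        rw [← QuotientGroup.eq_one_iff, ← QuotientGroup.mk'_apply, map_pow, map_mul, map_pow, map_pow, hq, ← pow_add,
          ← pow_mul, ← map_pow, QuotientGroup.mk'_apply, QuotientGroup.eq_one_iff] at hm
        have := orderOf_dvd_of_pow_eq_one (eq_one_of_not_dvd hM hm (j := 1)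
          (by rw [← pow_mul, mul_comm, pow_mul, pow_one, hz, one_pow]))
        rw [orderOf_eq_prime hz hz1] at this
        exact (hp.out.dvd_mul.1 this).elim hab hr
    exact h.trace_eq h0 hN ha hb hm hc
  have nd : ∀ a, 0 < a → a < 5 → ¬ p ∣ a := fun a h1 h2 e => by have := Nat.le_of_dvd h1 e; omega
  have k1 := key 1 1 (nd _ (by omega) (by omega)) (nd _ (by omega) (by omega)) (nd _ (by omega) (by omega))
  have k2 := key 2 1 (nd _ (by omega) (by omega)) (nd _ (by omega) (by omega)) (nd _ (by omega) (by omega))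
  have k3 : (Z * Z' + Z' * Z) ^ N = 0 := by
    rw [← (isUnit_natCast_of_not_dvd (R := R) (nd 4 (by omega) (by omega))).mul_left_eq_zero]
    simp only [Nat.cast_one, one_mul, Nat.cast_two, two_mul] at k1 k2
    rw [add_assoc, mul_add, k1, add_zero] at k2
    rwa [mul_add, k2, zero_add] at k1
  obtain ⟨j, hj⟩ := h.unip (p := p) hN (mul_mem z2 (inv_mem z1))
  rw [k3, sub_zero, one_mul, sub_eq_zero, ← map_one ρ] at hj
  have := eq_one_of_not_dvd hM (show n * z * n⁻¹ * z⁻¹ ∈ M by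
    simpa [mul_assoc] using mul_mem hn (hMn.conj_mem _ (inv_mem hn) z)) (hρ hj)
  exact commutatorElement_eq_one_iff_commute.1 this

end CL.MCN
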