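import Cfsg.Agent.FUS.MC.Quad2
import Cfsg.Agent.PLOC.PNormal

/-! # Two quadratic elements which are alone in their groups of elations -/

set_option autoImplicit false

namespace CL.MCN

open Subgroup CL.Fus
open scoped commutatorElement

variable {p : ℕ} [hp : Fact p.Prime] {G R : Type*} [Group G] [Finite G]

theorem exists_rel_cent {P Q M : Subgroup G} (hP : IsPGroup p P) (hQ : Q ≤ P) (hM : M < Q)
    (h1 : ∀ t ∈ P, ∀ x ∈ Q, t * x * t⁻¹ ∈ Q) (h2 : ∀ t ∈ P, ∀ x ∈ M, t * x * t⁻¹ ∈ M) :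
    ∃ y ∈ Q, y ∉ M ∧ ∀ t ∈ P, y * t * y⁻¹ * t⁻¹ ∈ M := by
  have : (Q.subgroupOf P).Normal := ⟨fun x hx t => h1 t t.2 x hx⟩
  have : (M.subgroupOf P).Normal := ⟨fun x hx t => h2 t t.2 x hx⟩
  obtain ⟨K, -, k1, k2, k3, k4⟩ := CL.PN.exists_normal_between hP (M.subgroupOf P) (Q.subgroupOf P)
    (lt_of_le_not_ge (subgroupOf_mono P hM.le) fun e => hM.not_ge fun x hx =>
      e (show (⟨x, hQ hx⟩ : P) ∈ Q.subgroupOf P from hx))
  obtain ⟨y, hy, hy'⟩ := SetLike.not_le_iff_exists.1 (show ¬ K ≤ M.subgroupOf P from fun e => by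
    rw [le_antisymm e k1] at k3
    have := hp.out.one_lt
    have := Nat.card_pos (α := M.subgroupOf P)
    nlinarith)
  exact ⟨y, k2 hy, hy', fun t ht => k4 (commutator_mem_commutator hy (mem_top ⟨t, ht⟩))⟩

theorem exists_cent {P Q : Subgroup G} (hP : IsPGroup p P) (hQ : Q ≤ P) (h0 : Q ≠ ⊥)
    (h1 : ∀ t ∈ P, ∀ x ∈ Q, t * x * t⁻¹ ∈ Q) : ∃ y ∈ Q, y ≠ 1 ∧ ∀ t ∈ P, Commute y t := by
  obtain ⟨y, hy, hy', h⟩ := exists_rel_cent hP hQ (bot_lt_iff_ne_bot.2 h0) h1 (by simp)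
  exact ⟨y, hy, by simpa using hy', fun t ht => commutatorElement_eq_one_iff_commute.1 (h t ht)⟩

variable [Ring R] [Algebra (ZMod p) R] [Finite R] {ρ : G →* R} {z z' : G} {Z Z' : R}

/-- the hypotheses on a pair -/
structure Pair (p : ℕ) (ρ : G →* R) (z z' : G) (Z Z' : R) : Prop extends QP ρ z z' Z Z' where
  five : 5 ≤ p
  inj : Function.Injective ρ
  top : closure ({z, z'} : Set G) = ⊤
  pow : z ^ p = 1
  pow' : z' ^ p = 1
  ne : z ≠ 1
  ne' : z' ≠ 1
  el : ∀ x w₁ w₂, ρ x - 1 = Z * w₁ → ρ x - 1 = w₂ * Z → x ∈ zpowers z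
  el' : ∀ x w₁ w₂, ρ x - 1 = Z' * w₁ → ρ x - 1 = w₂ * Z' → x ∈ zpowers z'
  np : ∀ N : Subgroup G, N.Normal → IsPGroup p N → N = ⊥

namespace Pair
variable (h : Pair p ρ z z' Z Z')
include h

omit hp [Finite G] [Algebra (ZMod p) R] [Finite R] in
theorem symm : Pair p ρ z' z Z' Z :=
  ⟨h.toQP.symm, h.five, h.inj, by rw [Set.pair_comm, h.top], h.pow', h.pow, h.ne', h.ne, h.el', h.el, h.np⟩

omit hp [Finite G] [Algebra (ZMod p) R] [Finite R] in
theorem mem (x : G) : x ∈ closure ({z, z'} : Set G) := h.top ▸ mem_top x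

theorem not_compl {M : Subgroup G} [M.Normal] (hM : ¬ p ∣ Nat.card M) (hq : ∀ x : G, ∃ j, x ^ p ^ j ∈ M) : False := by
  obtain ⟨P, hP⟩ := (isPGroup_zpowers' (j := 1) (by simpa using h.pow)).exists_le_sylow
  have hc : M ≤ normalizer (P : Set G) := fun n hn => center_le_normalizer _ (mem_center_iff.2 fun g => by
    have : closure ({z, z'} : Set G) ≤ centralizer {n} := (closure_le _).2 (by
      rintro _ (rfl | rfl)
      · exact mem_centralizer_singleton_iff.2 (commute_of_coprime h.five h.inj h.ez h.sq h.pow hM hn).symm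
      · exact mem_centralizer_singleton_iff.2 (commute_of_coprime h.five h.inj h.ez' h.sq' h.pow' hM hn).symm)
    exact mem_centralizer_singleton_iff.1 (this (h.mem g)))
  have hG : IsPGroup p (G ⧸ M) := fun x => by
    obtain ⟨x, rfl⟩ := QuotientGroup.mk_surjective x
    obtain ⟨j, hj⟩ := hq x
    exact ⟨j, (QuotientGroup.eq_one_iff _).2 hj⟩
  obtain ⟨k, hk⟩ := hG.exists_card_eq
  have h1 : (normalizer (P : Set G)).index ∣ p ^ k := hk ▸ index_dvd_of_le hc
  have h2 : (normalizer (P : Set G)).index = 1 :=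
    Nat.Coprime.eq_one_of_dvd ((Nat.coprime_comm.1 ((Nat.Prime.coprime_iff_not_dvd hp.out).2 fun e =>
      P.not_dvd_index (e.trans (index_dvd_of_le le_normalizer)))).pow_right k) h1
  have h3 := h.np P (normalizer_eq_top_iff.1 (index_eq_one.1 h2)) P.2
  exact h.ne (mem_bot.1 (h3 ▸ hP (mem_zpowers z)))

variable {N : ℕ} (h0 : 0 < N) (hN : IsIdempotentElem ((Z * Z' + Z' * Z) ^ N))
include h0 hN

omit [Finite G] [Finite R] in
theorem mem_zpowers {x : G} (hx : (1 - (Z * Z' + Z' * Z) ^ N) * (ρ x - 1) = 0) (hc : Commute x z) {j : ℕ}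
    (hj : x ^ p ^ j = 1) : x ∈ zpowers z := by
  obtain ⟨h1, h2⟩ := h.cent_act (by have := h.five; omega) (h.mem x) hc hj
  have hY : Commute (Z * Z' + Z' * Z) (ρ x - 1) := (h.commute_c (h.mem x)).sub_right (Commute.one_right _)
  have c1 := comm_c (Z' := Z') h.sq
  have c2 := comm_c' (Z := Z) h.sq'
  obtain ⟨l, rfl⟩ := Nat.exists_eq_add_of_le' h0
  have e1 : (Z * Z' + Z' * Z) ^ (l + 1) = (Z * Z' + Z' * Z) ^ (l + l) * ((Z * Z' + Z' * Z) * (Z * Z' + Z' * Z)) := by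
    rw [← hN.eq, ← pow_add, ← pow_two, ← pow_add]
    congr 1
    omega
  rw [sub_mul, one_mul, sub_eq_zero, e1] at hx
  have d1 := c1.pow_left (l + l)
  have d2 := hY.pow_left (l + l)
  generalize (Z * Z' + Z' * Z) ^ (l + l) = d at hx d1 d2
  refine h.el x (d * ((Z * Z' + Z' * Z) * (Z' * (ρ x - 1)))) (d * ((Z * Z' + Z' * Z) * ((ρ x - 1) * Z'))) ?_ ?_
  · generalize ρ x - 1 = Y at *
    rw [← d1.left_comm, ← c1.left_comm]
    nth_rewrite 1 [hx]
    rw [mul_assoc, mul_assoc]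
    congr 1
    have : (Z * Z' + Z' * Z) * Y = Z * (Z' * Y) + Z' * (Z * Y) := by noncomm_ring
    nth_rewrite 1 [this]
    rw [mul_add, c2.left_comm, h2, mul_zero, add_zero]
  · generalize ρ x - 1 = Y at *
    nth_rewrite 1 [hx]
    rw [mul_assoc, mul_assoc, hY.eq, mul_add Y, mul_add, ← mul_assoc Y, ← mul_assoc _ (Y * Z), h1, zero_mul,
      zero_add]
    simp only [mul_assoc]

/-- the kernel of the action on the Fitting null component -/
def K0 : Subgroup G where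
  carrier := {g | (1 - (Z * Z' + Z' * Z) ^ N) * (ρ g - 1) = 0}
  one_mem' := by simp
  mul_mem' {a b} ha hb := by
    have : ρ (a * b) - 1 = (ρ a - 1) * ρ b + (ρ b - 1) := by rw [map_mul]; noncomm_ring
    rw [Set.mem_ofPred_eq, this, mul_add, ← mul_assoc, ha, hb, zero_mul, zero_add]
  inv_mem' {a} ha := by
    have : ρ a⁻¹ - 1 = -((ρ a - 1) * ρ a⁻¹) := by
      rw [sub_mul, ← map_mul, mul_inv_cancel, map_one, one_mul, neg_sub]
    rw [Set.mem_ofPred_eq, this, mul_neg, ← mul_assoc, ha, zero_mul, neg_zero]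

theorem z_mem : (1 - (Z * Z' + Z' * Z) ^ N) * (ρ z - 1) = 0 := by
  have hn : (K0 (ρ := ρ) (Z := Z) (Z' := Z') (N := N)).Normal := ⟨fun a ha g => by
    have : ρ (g * a * g⁻¹) - 1 = ρ g * ((ρ a - 1) * ρ g⁻¹) := by
      rw [sub_mul, mul_sub, one_mul, ← map_mul, ← map_mul, ← map_mul, mul_inv_cancel, map_one, mul_assoc]
    change _ * _ = 0
    rw [this, ((Commute.one_left _).sub_left ((h.commute_c (h.mem g)).pow_left N)).left_comm, ← mul_assoc (1 - _), ha,
      zero_mul, mul_zero]⟩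
  obtain ⟨P, hP, hzP⟩ := exists_sylIn_ge (le_top (a := zpowers z))
    (isPGroup_zpowers' (j := 1) (by simpa using h.pow))
  by_cases hb : P ⊓ K0 (ρ := ρ) (Z := Z) (Z' := Z') (N := N) = ⊥
  · have := (hP.inf_normal le_top (normalizer_eq_top_iff.2 hn).ge).not_dvd_relIndex
    rw [hb, relIndex_bot_left] at this
    exact (h.not_compl this fun x => h.unip hN (h.mem x)).elim
  obtain ⟨y, hy, hy1, hc⟩ := exists_cent hP.isPGroup inf_le_left hb fun t ht x hx =>
    mem_inf.2 ⟨mul_mem (mul_mem ht (mem_inf.1 hx).1) (inv_mem ht), hn.conj_mem _ hx.2 _⟩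
  obtain ⟨j, hj⟩ := hP.isPGroup ⟨y, hy.1⟩
  exact zpowers_le.2 hy.2 (mem_zpowers_of_mem h.pow
    (h.mem_zpowers h0 hN hy.2 (hc z (hzP (Subgroup.mem_zpowers z))) (congrArg Subtype.val hj)) hy1)

theorem triv (g : G) : (1 - (Z * Z' + Z' * Z) ^ N) * (ρ g - 1) = 0 := by
  refine (closure_le (K0 (ρ := ρ) (Z := Z) (Z' := Z') (N := N))).2 ?_ (h.mem g)
  rintro _ (rfl | rfl)
  · exact h.z_mem h0 hN
  · have := h.symm.z_mem h0 (by rwa [add_comm])
    rwa [add_comm] at this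

omit h0 hN in
theorem exists_norm : ∃ (x : G) (a : ℕ), (a : ZMod p) ≠ 1 ∧ x * z * x⁻¹ = z ^ a := by
  obtain ⟨N, h0, hN⟩ := exists_idem_pow (Z * Z' + Z' * Z)
  obtain ⟨P, hP⟩ := (isPGroup_zpowers' (j := 1) (by simpa using h.pow)).exists_le_sylow
  have key : ∀ x ∈ (P : Subgroup G), Commute x z → x ∈ zpowers z := fun x hx hc => by
    obtain ⟨j, hj⟩ := P.2 ⟨x, hx⟩
    exact h.mem_zpowers h0 hN (h.triv h0 hN x) hc (congrArg Subtype.val hj)
  have hz := hP (Subgroup.mem_zpowers z)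
  obtain ⟨y, hy, hy1, hc⟩ := exists_cent P.2 le_rfl (fun e => h.ne (mem_bot.1 (e ▸ hz))) fun t ht x hx =>
    mul_mem (mul_mem ht hx) (inv_mem ht)
  obtain ⟨i, hi⟩ := mem_zpowers_of_mem h.pow (key y hy (hc z hz)) hy1
  have e : (P : Subgroup G) = zpowers z := le_antisymm (fun x hx => key x hx (hi ▸ ((hc x hx).zpow_left i).symm)) hP
  by_contra! hcon
  have hB : normalizer (P : Set G) ≤ centralizer (P : Set G) := fun x hx => by
    have h1 := (mem_normalizer_iff.1 hx z).1 hz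
    rw [e, ← mem_powers_iff_mem_zpowers] at h1
    obtain ⟨a, ha⟩ := h1
    have h2 : a ≡ 1 [MOD p] := (ZMod.natCast_eq_natCast_iff a 1 p).1 (by
      by_contra hne
      exact hcon x a (by simpa using hne) ha.symm)
    rw [← orderOf_eq_prime h.pow h.ne, ← pow_eq_pow_iff_modEq, pow_one] at h2
    intro t ht
    obtain ⟨l, rfl⟩ := e.le ht
    exact (Commute.zpow_left (mul_inv_eq_iff_eq_mul.1 (ha.symm.trans h2)).symm l).eq
  refine h.not_compl (MonoidHom.not_dvd_card_ker_transferSylow P hB) fun x => ?_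
  obtain ⟨j, hj⟩ := P.2 (MonoidHom.transferSylow P hB x)
  exact ⟨j, by rw [MonoidHom.mem_ker, map_pow, hj]⟩

omit h0 hN in
/-- an element acting as `a ≠ 1` on the image of `Z`, as `a⁻¹` on the coimage and trivially in between -/
theorem exists_scalar : ∃ (k : G) (a : ZMod p), a ≠ 1 ∧ ρ k * Z = a • Z ∧ a • (Z * ρ k) = Z ∧
    ∃ w₁ w₂, ρ k - 1 = Z * w₁ + w₂ * Z := by
  obtain ⟨N, h0, hN⟩ := exists_idem_pow (Z * Z' + Z' * Z)
  obtain ⟨x, a, ha, hx⟩ := h.exists_norm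
  have e1 : ρ x * Z = a * (Z * ρ x) := by
    have := congrArg ρ (mul_inv_eq_iff_eq_mul.1 hx)
    rw [map_mul, map_mul, rho_pow h.ez h.sq, h.ez, mul_add, add_mul, mul_one, one_mul, add_right_inj] at this
    rw [this, mul_assoc]
  obtain ⟨h1, h2⟩ := h.sq_act (h.mem x) (Nat.cast_commute a) e1
  have hZ : (Z * Z' + Z' * Z) ^ N * Z = Z := by
    have := h.triv h0 hN z
    rwa [h.ez, add_sub_cancel_left, sub_mul, one_mul, sub_eq_zero, eq_comm] at this
  have hk := h.triv h0 hN (x * x)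
  have cx := (h.commute_c (h.mem x)).pow_left N
  have c1 := comm_c (Z' := Z') h.sq
  have c2 := comm_c' (Z := Z) h.sq'
  have cY : Commute (Z * Z' + Z' * Z) (ρ (x * x) - 1) := (h.commute_c (h.mem _)).sub_right (Commute.one_right _)
  have sm : ∀ t : R, (a : ZMod p) • t = a * t := fun t => by rw [Nat.cast_smul_eq_nsmul, nsmul_eq_mul]
  obtain ⟨l, rfl⟩ := Nat.exists_eq_succ_of_ne_zero h0.ne'
  rw [sub_mul, one_mul, sub_eq_zero, (cY.pow_left _).eq, pow_succ] at hk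
  have d1 := c1.pow_left l
  have d2 := cY.pow_left l
  have d3 := Nat.commute_cast ((Z * Z' + Z' * Z) ^ l) a
  rw [pow_succ] at hZ cx
  generalize (Z * Z' + Z' * Z) ^ l = d at *
  have r1 : ρ (x * x) * Z = (a : ZMod p) • Z := by
    have := congrArg (d * ·) h1
    simp only [d3.left_comm, ← mul_assoc d] at this
    rw [cx.left_comm, cx.left_comm, hZ] at this
    rw [map_mul, mul_assoc, this, sm]
  refine ⟨x * x, a, ha, r1, ?_, ((a : ZMod p) - 1) • (d * Z'), (ρ (x * x) - 1) * (d * Z'), ?_⟩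
  · have := congrArg (d * ·) h2
    simp only [d3.left_comm, ← mul_assoc d] at this
    rw [← mul_assoc (d * _), ← mul_assoc (d * _), hZ] at this
    rw [map_mul, ← mul_assoc, sm, this]
  · nth_rewrite 1 [hk]
    rw [mul_add d, mul_add, d1.left_comm, ← mul_assoc _ Z, sub_mul _ _ Z, r1]
    simp only [mul_assoc, sub_mul, sub_smul, mul_sub, one_mul, one_smul, smul_mul_assoc, mul_smul_comm]

end Pair

end CL.MCN
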